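/-
Orbits of subgroups of `Cfsg.M24` on families of sets, certified by lists: a plan says which
generators lead from each element of a layer to new elements, the lists are shown to be without
repetition by inserting keys into a binary tree, and an invariant separates the orbits.

Main results: `Obj`, `obj`, `orbitList`, `weight4`, `weight4_smul`, `orbits`, `orbit_smul_stab`,
`orbits_at`.
-/
import Cfsg.Agent.Lib.Golay.Dodecad

set_option autoImplicit false
open scoped Pointwise
open Cfsg MulAction Cfsg.Agent.Golay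

namespace Cfsg.Agent.GolayOrbitLists

/-- A family of point sets. -/
abbrev Obj : Type := Finset (Finset GolayPt)

/-- The family coded by a list of masks. -/
def obj (l : List ℕ) : Obj := (l.map pts).toFinset

theorem mem_obj {l : List ℕ} {s : Finset GolayPt} : s ∈ obj l ↔ ∃ m ∈ l, pts m = s := by
  simp [obj]

theorem obj_singleton (m : ℕ) : obj [m] = {pts m} := rfl

theorem obj_map_imgMask {d : ℕ} (hd : validPerm d = true) (l : List ℕ) :
    obj (l.map (imgMask d)) = toPerm d • obj l := by
  ext s
  simp only [mem_obj, List.mem_map, exists_exists_and_eq_and, Finset.mem_smul_finset,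
    pts_imgMask hd]

/-- Generator number `i` applied to a list of masks. -/
def act (gens : List ℕ) (x : List ℕ) (i : ℕ) : List ℕ :=
  match gens[i]? with
  | none => x
  | some d => x.map (imgMask d)

/-- The new members found from a layer. -/
def next (gens : List ℕ) : List (List ℕ) → List (List ℕ) → List (List ℕ)
  | x :: xs, is :: ps => is.map (act gens x) ++ next gens xs ps
  | [], _ => []
  | _ :: _, [] => []

/-- All layers. -/
def layers (gens : List ℕ) : List (List ℕ) → List (List (List ℕ)) → List (List ℕ)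
  | cur, [] => cur
  | cur, p :: ps => cur ++ layers gens (next gens cur p) ps

/-- The members reached from `rep` by the plan. -/
def orbitList (gens : List ℕ) (e : List ℕ × List (List (List ℕ))) : List (List ℕ) :=
  layers gens [e.1] e.2

/-- `x` codes a member of the orbit of `X`. -/
def Reached (H : Subgroup ↥M24) (X : Obj) (x : List ℕ) : Prop :=
  obj x ∈ orbit H X ∧ ∀ m ∈ x, m < 2 ^ 24

theorem reached_act {H : Subgroup ↥M24} {gens : List ℕ}
    (hgens : ∀ d ∈ gens, ∃ h : isAut d = true, (⟨toPerm d, toPerm_mem_M24 h⟩ : ↥M24) ∈ H)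
    {X : Obj} {x : List ℕ} (hx : Reached H X x) (i : ℕ) : Reached H X (act gens x i) := by
  unfold act
  cases hd : gens[i]? with
  | none => exact hx
  | some d =>
    obtain ⟨ha, hh⟩ := hgens d (List.mem_of_getElem? hd)
    have hv := validPerm_of_isAut ha
    refine ⟨?_, fun m hm => ?_⟩
    · rw [obj_map_imgMask hv, ← MulAction.orbit_eq_iff.mpr hx.1]
      exact ⟨⟨_, hh⟩, rfl⟩
    · obtain ⟨m', -, rfl⟩ := List.mem_map.mp hm
      exact imgMask_lt hv _

theorem reached_next {H : Subgroup ↥M24} {gens : List ℕ}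
    (hgens : ∀ d ∈ gens, ∃ h : isAut d = true, (⟨toPerm d, toPerm_mem_M24 h⟩ : ↥M24) ∈ H)
    {X : Obj} : ∀ cur ps : List (List ℕ), (∀ x ∈ cur, Reached H X x) →
      ∀ y ∈ next gens cur ps, Reached H X y
  | x :: xs, is :: ps, hc, y, hy => by
    rw [next, List.mem_append] at hy
    rcases hy with hy | hy
    · obtain ⟨i, -, rfl⟩ := List.mem_map.mp hy
      exact reached_act hgens (hc x List.mem_cons_self) i
    · exact reached_next hgens xs ps (fun z hz => hc z (List.mem_cons_of_mem _ hz)) y hy
  | [], _, _, _, hy => by simp [next] at hy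
  | _ :: _, [], _, _, hy => by simp [next] at hy

theorem reached_layers {H : Subgroup ↥M24} {gens : List ℕ}
    (hgens : ∀ d ∈ gens, ∃ h : isAut d = true, (⟨toPerm d, toPerm_mem_M24 h⟩ : ↥M24) ∈ H)
    {X : Obj} : ∀ (plans : List (List (List ℕ))) (cur : List (List ℕ)),
      (∀ x ∈ cur, Reached H X x) → ∀ y ∈ layers gens cur plans, Reached H X y
  | [], _, hc, y, hy => hc y hy
  | p :: ps, cur, hc, y, hy => by
    rw [layers, List.mem_append] at hy
    rcases hy with hy | hy
    · exact hc y hy
    · exact reached_layers hgens ps _ (reached_next hgens cur p hc) y hy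

/-! ### Distinctness -/

/-- A binary tree. -/
inductive Trie
  | nil
  | node (a b : Trie)

/-- Left subtree. -/
def Trie.left : Trie → Trie
  | .nil => .nil
  | .node a _ => a

/-- Right subtree. -/
def Trie.right : Trie → Trie
  | .nil => .nil
  | .node _ b => b

/-- Membership of a key of `n` bits. -/
def Trie.has : ℕ → ℕ → Trie → Bool
  | 0, _, .nil => false
  | 0, _, .node _ _ => true
  | n + 1, k, t => bif k % 2 == 0 then has n (k / 2) t.left else has n (k / 2) t.right

/-- Insertion of a key of `n` bits that must be new. -/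
def Trie.ins : ℕ → ℕ → Trie → Option Trie
  | 0, _, .nil => some (.node .nil .nil)
  | 0, _, .node _ _ => none
  | n + 1, k, t => bif k % 2 == 0 then (ins n (k / 2) t.left).map (fun a => .node a t.right)
      else (ins n (k / 2) t.right).map (fun b => .node t.left b)

theorem Trie.ins_spec : ∀ (n k : ℕ) (t t' : Trie), Trie.ins n k t = some t' →
    Trie.has n k t = false ∧ Trie.has n k t' = true ∧
      ∀ j, Trie.has n j t = true → Trie.has n j t' = true
  | 0, _, .nil, t', h => by
    simp only [Trie.ins, Option.some.injEq] at h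
    subst h
    simp [Trie.has]
  | 0, _, .node _ _, t', h => by simp [Trie.ins] at h
  | n + 1, k, t, t', h => by
    rcases Nat.mod_two_eq_zero_or_one k with hk | hk
    · simp only [Trie.ins, hk, beq_self_eq_true, cond_true, Option.map_eq_some_iff] at h
      obtain ⟨a, ha, rfl⟩ := h
      obtain ⟨h1, h2, h3⟩ := Trie.ins_spec n _ _ _ ha
      refine ⟨by simpa [Trie.has, hk] using h1, by simpa [Trie.has, hk, Trie.left] using h2,
        fun j hj => ?_⟩
      rcases Nat.mod_two_eq_zero_or_one j with hj' | hj'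
      · simp [Trie.has, hj'] at hj
        simpa [Trie.has, hj', Trie.left] using h3 _ hj
      · simpa [Trie.has, hj', Trie.right] using hj
    · have hne : (k % 2 == 0) = false := by rw [hk]; rfl
      simp only [Trie.ins, hne, cond_false, Option.map_eq_some_iff] at h
      obtain ⟨a, ha, rfl⟩ := h
      obtain ⟨h1, h2, h3⟩ := Trie.ins_spec n _ _ _ ha
      refine ⟨by simpa [Trie.has, hk] using h1, by simpa [Trie.has, hk, Trie.right] using h2,
        fun j hj => ?_⟩
      rcases Nat.mod_two_eq_zero_or_one j with hj' | hj'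
      · simpa [Trie.has, hj', Trie.left] using hj
      · simp [Trie.has, hj'] at hj
        simpa [Trie.has, hj', Trie.right] using h3 _ hj

/-- All the keys can be inserted. -/
def allNew : List ℕ → Trie → Bool
  | [], _ => true
  | k :: ks, t =>
    match Trie.ins 36 k t with
    | none => false
    | some t' => allNew ks t'

theorem allNew_spec : ∀ (ks : List ℕ) (t : Trie), allNew ks t = true →
    ks.Nodup ∧ ∀ k ∈ ks, Trie.has 36 k t = false
  | [], _, _ => by simp
  | k :: ks, t, h => by
    rw [allNew] at h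
    cases hi : Trie.ins 36 k t with
    | none => rw [hi] at h; simp at h
    | some t' =>
      rw [hi] at h
      obtain ⟨h1, h2, h3⟩ := Trie.ins_spec _ _ _ _ hi
      obtain ⟨hn, hf⟩ := allNew_spec ks t' h
      refine ⟨List.nodup_cons.mpr ⟨fun hk => ?_, hn⟩, fun j hj => ?_⟩
      · rw [hf k hk] at h2; exact Bool.false_ne_true h2
      · rcases List.mem_cons.mp hj with rfl | hj
        · exact h1
        · by_contra hne
          have h4 := hf j hj
          rw [h3 j (by simpa using hne)] at h4
          exact absurd h4 (by decide)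

/-- The contribution of a mask to a key. -/
def keyPart (m : ℕ) : ℕ := (m * m) <<< (48 * (m * m % 1000003 % 7))

/-- The key of a list of masks. -/
def keyList (l : List ℕ) : ℕ := l.foldr (fun m acc => keyPart m ||| acc) 0 % 68719476731

/-- Bitwise disjunction. -/
def orOp (a b : ℕ) : ℕ := a ||| b

instance : Std.Commutative orOp := ⟨Nat.lor_comm⟩
instance : Std.Associative orOp := ⟨Nat.lor_assoc⟩
instance : Std.IdempotentOp orOp := ⟨Nat.or_self⟩

/-- The key of a family of sets. -/
def keyObj (X : Obj) : ℕ :=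
  X.fold orOp 0 (fun t => keyPart (maskOf t)) % 68719476731

theorem keyObj_obj {l : List ℕ} (hl : ∀ m ∈ l, m < 2 ^ 24) : keyObj (obj l) = keyList l := by
  suffices h : (obj l).fold orOp 0 (fun t => keyPart (maskOf t)) =
      l.foldr (fun m acc => keyPart m ||| acc) 0 by
    rw [keyObj, keyList, h]
  induction l with
  | nil => rfl
  | cons m l ih =>
    rw [show obj (m :: l) = insert (pts m) (obj l) by simp [obj], Finset.fold_insert_idem,
      ih fun a ha => hl a (List.mem_cons_of_mem _ ha), List.foldr_cons,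
      maskOf_pts (hl m List.mem_cons_self), orOp]

/-! ### Invariants -/

/-- An invariant of a pair of families. -/
def weight4 (A B : Obj) : ℕ := ∑ a ∈ A, ∑ b ∈ B, (a ∩ b).card ^ 4

theorem weight4_smul (g : Equiv.Perm GolayPt) (A B : Obj) :
    weight4 (g • A) (g • B) = weight4 A B := by
  rw [weight4, weight4, show g • A = A.image (g • ·) from rfl,
    show g • B = B.image (g • ·) from rfl, Finset.sum_image ((MulAction.injective g).injOn)]
  refine Finset.sum_congr rfl fun a _ => ?_
  rw [Finset.sum_image ((MulAction.injective g).injOn)]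
  refine Finset.sum_congr rfl fun b _ => ?_
  rw [← Finset.smul_finset_inter, Finset.card_smul_finset]

theorem weight4_stab {A : Obj} {h : ↥M24} (hh : h ∈ stabilizer M24 A) (B : Obj) :
    weight4 A (h • B) = weight4 A B := by
  conv_lhs => rw [← (mem_stabilizer_iff.mp hh)]
  exact weight4_smul (h : Equiv.Perm GolayPt) A B

/-! ### The orbits -/

/-- The check on the generators and plans. -/
def check (gens : List ℕ) (D : List (List ℕ × List (List (List ℕ)))) : Bool :=
  (D.all fun e => e.1.all fun m => Nat.blt m 16777216) &&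
    allNew ((D.flatMap (orbitList gens)).map keyList) .nil

/-- Plans exhausting a finite stable set give its orbits. -/
theorem orbits {gens : List ℕ} {D : List (List ℕ × List (List (List ℕ)))}
    (hchk : check gens D = true) {H : Subgroup ↥M24}
    (hgens : ∀ d ∈ gens, ∃ h : isAut d = true, (⟨toPerm d, toPerm_mem_M24 h⟩ : ↥M24) ∈ H)
    {J : Obj → ℕ} (hJ : ∀ h ∈ H, ∀ X : Obj, J (h • X) = J X)
    (hJD : (D.map fun e => J (obj e.1)).Nodup)
    {Ω : Set Obj} (hΩ : ∀ h ∈ H, ∀ X ∈ Ω, h • X ∈ Ω) (hrep : ∀ e ∈ D, obj e.1 ∈ Ω)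
    (hN : Ω.ncard = (D.flatMap (orbitList gens)).length) :
    (∀ X ∈ Ω, ∃ e ∈ D, X ∈ orbit H (obj e.1)) ∧
      ∀ e ∈ D, (orbit H (obj e.1)).ncard = (orbitList gens e).length := by
  classical
  simp only [check, Bool.and_eq_true, List.all_eq_true, Nat.blt_eq] at hchk
  obtain ⟨hb, hnew⟩ := hchk
  have hreach : ∀ e ∈ D, ∀ y ∈ orbitList gens e, Reached H (obj e.1) y := fun e he =>
    reached_layers hgens e.2 [e.1] fun x hx => by
      rw [List.mem_singleton.mp hx]
      exact ⟨mem_orbit_self _, fun m hm => hb e he m hm⟩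
  have hkeys : ((D.flatMap (orbitList gens)).map obj).Nodup := by
    refine List.Nodup.of_map keyObj ?_
    rw [List.map_map, List.map_congr_left (g := keyList) fun y hy => ?_]
    · exact (allNew_spec _ _ hnew).1
    · obtain ⟨e, he, hy⟩ := List.mem_flatMap.mp hy
      exact keyObj_obj (hreach e he y hy).2
  have horb : ∀ e ∈ D, orbit H (obj e.1) ⊆ Ω := fun e he X hX => by
    obtain ⟨h, rfl⟩ := hX
    exact hΩ h h.2 _ (hrep e he)
  have hset : ((((D.flatMap (orbitList gens)).map obj).toFinset : Finset Obj) : Set Obj) = Ω := by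
    refine Set.eq_of_subset_of_ncard_le (fun X hX => ?_) ?_ (Set.toFinite _)
    · simp only [List.coe_toFinset, Set.mem_setOf_eq, List.mem_map, List.mem_flatMap] at hX
      obtain ⟨y, ⟨e, he, hy⟩, rfl⟩ := hX
      exact horb e he (hreach e he y hy).1
    · rw [Set.ncard_coe_finset, List.toFinset_card_of_nodup hkeys, List.length_map, hN]
  have hcover : ∀ X ∈ Ω, ∃ e ∈ D, ∃ y ∈ orbitList gens e, obj y = X := fun X hX => by
    rw [← hset] at hX
    simp only [List.coe_toFinset, Set.mem_setOf_eq, List.mem_map, List.mem_flatMap] at hX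
    obtain ⟨y, ⟨e, he, hy⟩, rfl⟩ := hX
    exact ⟨e, he, y, hy, rfl⟩
  refine ⟨fun X hX => ?_, fun e he => ?_⟩
  · obtain ⟨e, he, y, hy, rfl⟩ := hcover X hX
    exact ⟨e, he, (hreach e he y hy).1⟩
  · have heq : orbit H (obj e.1) =
        ((((orbitList gens e).map obj).toFinset : Finset Obj) : Set Obj) := by
      ext X
      simp only [List.coe_toFinset, Set.mem_setOf_eq, List.mem_map]
      constructor
      · intro hX
        obtain ⟨e', he', y, hy, rfl⟩ := hcover X (horb e he hX)
        have hJe : ∀ {e₁}, obj y ∈ orbit H (obj e₁) → J (obj y) = J (obj e₁) := by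
          rintro e₁ ⟨h, hh⟩
          rw [← hh]
          exact hJ h h.2 _
        have h12 : e' = e := List.inj_on_of_nodup_map hJD he' he
          ((hJe (hreach e' he' y hy).1).symm.trans (hJe hX))
        exact ⟨y, h12 ▸ hy, rfl⟩
      · rintro ⟨y, hy, rfl⟩
        exact (hreach e he y hy).1
    have hnd : ((orbitList gens e).map obj).Nodup :=
      (List.Sublist.map obj (List.sublist_flatten_of_mem
        (List.mem_map_of_mem he : orbitList gens e ∈ D.map (orbitList gens)))).nodup
        (by rw [← List.flatMap_def]; exact hkeys)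
    rw [heq, Set.ncard_coe_finset, List.toFinset_card_of_nodup hnd, List.length_map]

/-- Orbits of a conjugate stabiliser. -/
theorem orbit_smul_stab (t : ↥M24) (A X : Obj) :
    orbit (stabilizer M24 (t • A)) (t • X) = (t • ·) '' orbit (stabilizer M24 A) X := by
  ext Y
  constructor
  · rintro ⟨⟨h, hh⟩, rfl⟩
    have hm : t⁻¹ * h * t ∈ stabilizer M24 A := by
      rw [mem_stabilizer_iff, mul_smul, mul_smul, mem_stabilizer_iff.mp hh, inv_smul_smul]
    refine ⟨(t⁻¹ * h * t) • X, ⟨⟨_, hm⟩, rfl⟩, ?_⟩
    show t • (t⁻¹ * h * t) • X = h • t • X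
    rw [← mul_smul, ← mul_smul]
    congr 1
    group
  · rintro ⟨_, ⟨⟨h, hh⟩, rfl⟩, rfl⟩
    have hm : t * h * t⁻¹ ∈ stabilizer M24 (t • A) := by
      rw [mem_stabilizer_iff, mul_smul, mul_smul, inv_smul_smul, mem_stabilizer_iff.mp hh]
    refine ⟨⟨_, hm⟩, ?_⟩
    show (t * h * t⁻¹) • t • X = t • h • X
    rw [← mul_smul, ← mul_smul]
    congr 1
    group

/-- The check that the generators preserve a family. -/
def fixesObj (A : List ℕ) (gens : List ℕ) : Bool :=
  gens.all fun d => isAut d && A.all fun m => A.contains (imgMask d m)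

theorem mem_stab_of_fixesObj {A gens : List ℕ} (h : fixesObj A gens = true) :
    ∀ d ∈ gens, ∃ h : isAut d = true,
      (⟨toPerm d, toPerm_mem_M24 h⟩ : ↥M24) ∈ stabilizer M24 (obj A) := by
  intro d hd
  simp only [fixesObj, List.all_eq_true, Bool.and_eq_true, List.contains_iff_mem] at h
  obtain ⟨ha, hm⟩ := h d hd
  refine ⟨ha, mem_stabilizer_iff.mpr ?_⟩
  show toPerm d • obj A = obj A
  refine Finset.eq_of_subset_of_card_le (fun s hs => ?_) (by rw [Finset.card_smul_finset])
  rw [← obj_map_imgMask (validPerm_of_isAut ha)] at hs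
  obtain ⟨m', hm', rfl⟩ := mem_obj.mp hs
  obtain ⟨m, hmA, rfl⟩ := List.mem_map.mp hm'
  exact mem_obj.mpr ⟨_, hm m hmA, rfl⟩

/-- The orbits of the stabiliser of `t • obj A0` on an `M24`-stable set of families. -/
theorem orbits_at {A0 gens : List ℕ} {D : List (List ℕ × List (List (List ℕ)))}
    (hfix : fixesObj A0 gens = true) (hchk : check gens D = true)
    (hJD : (D.map fun e => weight4 (obj A0) (obj e.1)).Nodup)
    {Ω : Set Obj} (hΩ : ∀ h : ↥M24, ∀ X ∈ Ω, h • X ∈ Ω) (hrep : ∀ e ∈ D, obj e.1 ∈ Ω)
    (hN : Ω.ncard = (D.flatMap (orbitList gens)).length) (t : ↥M24) :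
    (∀ X ∈ Ω, ∃ e ∈ D, X ∈ orbit (stabilizer M24 (t • obj A0)) (t • obj e.1)) ∧
      ∀ e ∈ D, t • obj e.1 ∈ Ω ∧ orbit (stabilizer M24 (t • obj A0)) (t • obj e.1) ⊆ Ω ∧
        (orbit (stabilizer M24 (t • obj A0)) (t • obj e.1)).ncard = (orbitList gens e).length := by
  obtain ⟨h1, h2⟩ := orbits hchk (mem_stab_of_fixesObj hfix) (J := weight4 (obj A0))
    (fun h hh X => weight4_stab hh X) hJD (fun h _ X hX => hΩ h X hX) hrep hN
  refine ⟨fun X hX => ?_, fun e he => ⟨hΩ t _ (hrep e he), ?_, ?_⟩⟩
  · obtain ⟨e, he, hm⟩ := h1 (t⁻¹ • X) (hΩ t⁻¹ X hX)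
    refine ⟨e, he, ?_⟩
    rw [orbit_smul_stab]
    exact ⟨_, hm, smul_inv_smul t X⟩
  · rintro _ ⟨h, rfl⟩
    exact hΩ h _ (hΩ t _ (hrep e he))
  · rw [orbit_smul_stab, Set.ncard_image_of_injective _ (MulAction.injective t), h2 e he]

end Cfsg.Agent.GolayOrbitLists
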