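/-
The families acted on: single octads, sextets, trios, complementary pairs of dodecads, with
membership tests for codes of representatives and transitivity of `Cfsg.M24`.

Main results: `octadFams`, `obj_mem_sextets`, `obj_mem_trios`, `sextet0`, `trio0`, `dodPair0`,
`exists_map_sextet`, `exists_map_trio`, `exists_map_pair`, `exists_map_three`, `orbit_singleton`.
-/
import Cfsg.Agent.Lib.GolayOrbitLists.Engine
import Cfsg.Agent.Lib.Golay.Sextet
import Cfsg.Agent.Lib.Golay.OctadOrbits

set_option autoImplicit false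
open scoped Pointwise
open Cfsg MulAction Cfsg.Agent.Golay

namespace Cfsg.Agent.GolayOrbitLists

/-- The octads, each as a family with one member. -/
def octadFams : Set Obj := (fun o => ({o} : Obj)) '' octads

theorem ncard_octadFams : octadFams.ncard = 759 := by
  rw [octadFams, Set.ncard_image_of_injective _ Finset.singleton_injective, ncard_octads]

theorem smul_mem_octadFams (h : ↥M24) : ∀ X ∈ octadFams, h • X ∈ octadFams := by
  rintro _ ⟨o, ho, rfl⟩
  exact ⟨h • o, smul_mem_octads h.2 ho, (Finset.smul_finset_singleton _).symm⟩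

theorem smul_mem_sextets' (h : ↥M24) : ∀ X ∈ sextets, h • X ∈ sextets :=
  fun _ hX => smul_mem_sextets h.2 hX

theorem smul_mem_trios' (h : ↥M24) : ∀ X ∈ trios, h • X ∈ trios :=
  fun _ hX => smul_mem_trios h.2 hX

/-- The code of an octad. -/
def isOctad (m : ℕ) : Bool := isCode m && popcount m == 8

/-- The code of a sextet. -/
def isSextetList (l : List ℕ) : Bool :=
  l.length == 6 && (l.all fun m => Nat.blt m 16777216 && popcount m == 4) &&
    (l.all fun a => l.all fun b => a == b || isOctad (a ||| b)) && l.dedup == l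

/-- The code of a trio. -/
def isTrioList (l : List ℕ) : Bool :=
  l.length == 3 && l.all isOctad && (l.all fun a => l.all fun b => a == b || a &&& b == 0) &&
    l.dedup == l

theorem card_obj {l : List ℕ} (hl : ∀ m ∈ l, m < 2 ^ 24) (hd : l.dedup = l) :
    (obj l).card = l.length := by
  rw [obj, List.toFinset_card_of_nodup, List.length_map]
  refine (List.nodup_map_iff_inj_on ?_).mpr fun a ha b hb h => pts_injOn (hl a ha) (hl b hb) h
  exact List.dedup_eq_self.mp hd

theorem obj_mem_sextets {l : List ℕ} (h : isSextetList l = true) : obj l ∈ sextets := by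
  simp only [isSextetList, Bool.and_eq_true, beq_iff_eq, List.all_eq_true, Bool.or_eq_true,
    Nat.blt_eq] at h
  obtain ⟨⟨⟨h6, h4⟩, hp⟩, hd⟩ := h
  refine ⟨(card_obj (fun m hm => (h4 m hm).1) hd).trans h6, fun t ht => ?_,
    fun t ht u hu hne => ?_⟩
  · obtain ⟨m, hm, rfl⟩ := mem_obj.mp ht
    rw [card_pts, (h4 m hm).2]
  · obtain ⟨a, ha, rfl⟩ := mem_obj.mp ht
    obtain ⟨b, hb, rfl⟩ := mem_obj.mp hu
    rcases hp a ha b hb with h | h
    · exact absurd (congrArg pts h) hne
    · rw [← pts_or]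
      exact pts_mem_octads h

theorem obj_mem_trios {l : List ℕ} (h : isTrioList l = true) : obj l ∈ trios := by
  simp only [isTrioList, Bool.and_eq_true, beq_iff_eq, List.all_eq_true, Bool.or_eq_true] at h
  obtain ⟨⟨⟨h3, h8⟩, hp⟩, hd⟩ := h
  have hlt : ∀ m ∈ l, m < 2 ^ 24 := fun m hm => lt_of_isCode (Bool.and_eq_true_iff.mp (h8 m hm)).1
  refine ⟨(card_obj hlt hd).trans h3, fun t ht => ?_, fun t ht u hu hne => ?_⟩
  · obtain ⟨m, hm, rfl⟩ := mem_obj.mp ht
    exact pts_mem_octads (h8 m hm)
  · obtain ⟨a, ha, rfl⟩ := mem_obj.mp ht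
    obtain ⟨b, hb, rfl⟩ := mem_obj.mp hu
    rcases hp a ha b hb with h | h
    · exact absurd (congrArg pts h) hne
    · rw [Finset.disjoint_iff_inter_eq_empty, ← pts_and, h, pts_zero]

theorem obj_mem_octadFams {m : ℕ} (h : isOctad m = true) : obj [m] ∈ octadFams :=
  ⟨pts m, pts_mem_octads h, rfl⟩

/-- The standard sextet. -/
def sextet0 : List ℕ := [0x24028, 0x41900, 0x108600, 0x2800c0, 0x412010, 0x800007]

/-- The standard trio. -/
def trio0 : List ℕ := [0x258c50, 0x583380, 0x82402f]

/-- The standard complementary pair of dodecads. -/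
def dodPair0 : List ℕ := [0x5335f, 0xfacca0]

/-- `M24` is transitive on sextets. -/
theorem exists_map_sextet {S : Obj} (hS : S ∈ sextets) : ∃ g : ↥M24, g • obj sextet0 = S := by
  obtain ⟨t, ht⟩ := Finset.card_pos.mp (show 0 < S.card by rw [hS.1]; norm_num)
  have ht4 := hS.2.1 t ht
  obtain ⟨o, ho, hto⟩ : ∃ o ∈ octads, t ⊆ o := by
    obtain ⟨u, hu, hne⟩ := Finset.exists_mem_ne (show 1 < S.card by rw [hS.1]; norm_num) t
    exact ⟨t ∪ u, hS.2.2 t ht u hu hne.symm, Finset.subset_union_left⟩
  obtain ⟨a, ha, hao⟩ := exists_map_octad (o := pts 0x824028 ∪ pts 0x7) (o' := o) (by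
    rw [← pts_or]; exact pts_mem_octads (by decide +kernel)) ho
  have hsub : pts 0x800007 ⊆ pts 0x824028 ∪ pts 0x7 := by decide +kernel
  obtain ⟨b, hb, hbt⟩ := exists_map_subset ho
    (show a • pts 0x800007 ⊆ o by rw [← hao]; exact Finset.smul_finset_subset_smul_finset hsub)
    hto (by rw [Finset.card_smul_finset, ht4, card_pts]; decide +kernel)
    (Or.inr (by rw [Finset.card_smul_finset, card_pts]; decide +kernel))
  have hg : b * a ∈ M24 := mul_mem hb.1 ha
  refine ⟨⟨b * a, hg⟩, ?_⟩
  have h0 : obj sextet0 ∈ sextets := obj_mem_sextets (by decide +kernel)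
  have hm : pts 0x800007 ∈ obj sextet0 := mem_obj.mpr ⟨_, by decide, rfl⟩
  rw [eq_sextetOf hS ht]
  refine eq_sextetOf (smul_mem_sextets' ⟨b * a, hg⟩ _ h0) ?_
  rw [← hbt, ← mul_smul]
  exact Finset.smul_mem_smul_finset hm

/-- `M24` is transitive on trios. -/
theorem exists_map_trio {T : Obj} (hT : T ∈ trios) : ∃ g : ↥M24, g • obj trio0 = T := by
  obtain ⟨o, hoT⟩ := Finset.card_pos.mp (show 0 < T.card by rw [hT.1]; norm_num)
  obtain ⟨o', ho'T, hne⟩ := Finset.exists_mem_ne (show 1 < T.card by rw [hT.1]; norm_num) o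
  have h0 : obj trio0 ∈ trios := obj_mem_trios (by decide +kernel)
  obtain ⟨a, ha, hao⟩ := exists_map_octad octad0_mem (hT.2.1 o hoT)
  have hdis : ∀ {x y : Finset GolayPt}, Disjoint x y → (x ∩ y).card = 0 := fun h => by
    rw [Finset.disjoint_iff_inter_eq_empty.mp h, Finset.card_empty]
  obtain ⟨b, hb, hbo⟩ := exists_map_octad_pair (hT.2.1 o hoT)
    (smul_mem_octads ha (pts_mem_octads (m := 0x258c50) (by decide +kernel))) (hT.2.1 o' ho'T) (by
      rw [hdis (hT.2.2 o hoT o' ho'T hne.symm), ← hao, ← Finset.smul_finset_inter,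
        Finset.card_smul_finset, ← pts_and, card_pts]
      decide +kernel)
  have hg : b * a ∈ M24 := mul_mem hb.1 ha
  refine ⟨⟨b * a, hg⟩, ?_⟩
  have m1 : o ∈ (b * a) • obj trio0 := by
    rw [← (show b • o = o from hb.2), ← hao, ← mul_smul]
    exact Finset.smul_mem_smul_finset (mem_obj.mpr ⟨octad0, by decide +kernel, rfl⟩)
  have m2 : o' ∈ (b * a) • obj trio0 := by
    rw [← hbo, ← mul_smul]
    exact Finset.smul_mem_smul_finset (mem_obj.mpr ⟨_, by decide, rfl⟩)
  exact (trio_third (smul_mem_trios hg h0) m1 m2 hne.symm).trans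
    (trio_third hT hoT ho'T hne.symm).symm

theorem obj_dodPair0 : obj dodPair0 = {pts dodecad0, Finset.univ \ pts dodecad0} := by
  decide +kernel

/-- `M24` is transitive on complementary pairs of dodecads. -/
theorem exists_map_pair {d : Finset GolayPt} (hd : d ∈ dodecads) :
    ∃ g : ↥M24, g • obj dodPair0 = {d, Finset.univ \ d} := by
  obtain ⟨g, hg, hgd⟩ := Golay.exists_map_dodecad dodecad0_mem hd
  refine ⟨⟨g, hg⟩, ?_⟩
  show g • obj dodPair0 = _
  rw [obj_dodPair0, Finset.smul_finset_insert, Finset.smul_finset_singleton,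
    Finset.smul_finset_sdiff, Finset.smul_finset_univ, hgd]

/-- `M24` is transitive on sets of three points. -/
theorem exists_map_three {Y : Finset GolayPt} (hY : Y.card = 3) :
    ∃ g : ↥M24, g • obj [0x800003] = {Y} := by
  obtain ⟨o, ho, hYo⟩ : ∃ o ∈ octads, Y ⊆ o := by
    obtain ⟨s, hYs, -, hs⟩ := Finset.exists_subsuperset_card_eq (Finset.subset_univ Y)
      (show Y.card ≤ 5 by omega) (by rw [Finset.card_univ]; decide)
    obtain ⟨o, ho, hso⟩ := exists_octad hs
    exact ⟨o, ho, hYs.trans hso⟩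
  obtain ⟨a, ha, hao⟩ := exists_map_octad octad0_mem ho
  have hsub : pts 0x800003 ⊆ pts octad0 := by decide +kernel
  obtain ⟨b, hb, hbt⟩ := exists_map_subset ho
    (show a • pts 0x800003 ⊆ o by rw [← hao]; exact Finset.smul_finset_subset_smul_finset hsub)
    hYo (by rw [Finset.card_smul_finset, hY, card_pts]; decide +kernel)
    (Or.inr (by rw [Finset.card_smul_finset, card_pts]; decide +kernel))
  refine ⟨⟨b * a, mul_mem hb.1 ha⟩, ?_⟩
  show (b * a) • ({pts 0x800003} : Obj) = _
  rw [Finset.smul_finset_singleton, mul_smul, hbt]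

theorem stabilizer_singleton (o : Finset GolayPt) :
    stabilizer M24 ({o} : Obj) = stabilizer M24 o := by
  ext g
  rw [mem_stabilizer_iff, mem_stabilizer_iff, Finset.smul_finset_singleton, Finset.singleton_inj]

theorem image_orbit_singleton (H : Subgroup ↥M24) (o : Finset GolayPt) :
    orbit H ({o} : Obj) = (fun x => ({x} : Obj)) '' orbit H o := by
  ext Y
  constructor
  · rintro ⟨h, rfl⟩
    exact ⟨h • o, ⟨h, rfl⟩, (Finset.smul_finset_singleton _).symm⟩
  · rintro ⟨_, ⟨h, rfl⟩, rfl⟩
    exact ⟨h, Finset.smul_finset_singleton _⟩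

end Cfsg.Agent.GolayOrbitLists
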