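/-
Orbit plans for the stabiliser of an octad on sextets, produced by a search program and checked by the
kernel where used: for each layer and each of its members, the generators leading to new members.
-/
import Cfsg.Agent.EqLemmas

set_option autoImplicit false
set_option maxRecDepth 20000

namespace Cfsg.Agent.GolayOrbitLists

/-- Generators for `octSext`. -/
def octSextGens : List ℕ :=
  [
    0x755885be2990147312d48343319457, 
    0x91ed51848b01944ae553ccb088eee, 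
    0x1e75951cd405ec31130b28ab88877]

/-- Layers of orbit 0 (size 35) of `octSext`. -/
def octSextPlan0 : List (List (List ℕ)) :=
  [[[0, 1, 2]],
   [[0, 1, 2], [0, 1], [0, 1, 2]],
   [[1], [1], [0, 1, 2], [0, 2], [1], [2], [0, 2], [2]],
   [[], [1, 2], [0, 2], [0, 2], [], [], [], [], [1], [2], [1], []],
   [[1], [], [], [1], [], [], [], [], []]]

/-- Representative of orbit 0 of `octSext`. -/
def octSextRep0 : List ℕ := [0xf, 0x1490, 0x98100, 0x342000, 0x400a40, 0x824020]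

/-- Layers of orbit 1 (size 840) of `octSext`. -/
def octSextPlan1 : List (List (List ℕ)) :=
  [[[0, 1, 2]],
   [[0, 1, 2], [0, 1, 2], [0, 1, 2]],
   [[1, 2], [0, 1, 2], [0, 1, 2], [0, 1, 2], [0, 1, 2], [0, 1, 2], [0, 1], [0, 1, 2], [0, 1, 2]],
   [[0, 1, 2], [0], [0, 1, 2], [0, 1, 2], [0, 1, 2], [0, 1], [1, 2], [0, 1], [0, 1, 2], [0, 1, 2],
   [0, 1, 2], [0, 1, 2], [0, 1, 2], [0, 1, 2], [0, 1, 2], [0, 1], [0, 2], [1, 2], [0, 1],
   [0, 1, 2], [0, 1, 2], [0, 1, 2], [0, 1, 2], [1, 2], [0, 1]],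
   [[0, 1, 2], [0, 1], [0, 1, 2], [0, 2], [0, 1, 2], [0, 1, 2], [1], [0, 1, 2], [0, 1, 2],
   [0, 1, 2], [0, 1, 2], [0, 1], [0, 2], [2], [0, 1], [0, 1, 2], [0, 1, 2], [0, 1, 2], [0, 1, 2],
   [0, 1, 2], [0, 1, 2], [0, 1, 2], [0, 1], [0, 1, 2], [0, 1, 2], [0, 1, 2], [0, 1], [0, 2],
   [0, 2], [0, 1], [0, 1, 2], [0, 1, 2], [0, 1, 2], [0, 1, 2], [0, 1, 2], [0, 1, 2], [1, 2],
   [1, 2], [0, 2], [0, 1, 2], [1, 2], [0, 1, 2], [0], [0, 1], [0, 1, 2], [0, 1, 2], [0, 1, 2],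
   [0, 1, 2], [0, 1, 2], [0, 1, 2], [0, 1, 2], [0, 1], [0, 1, 2], [0, 1, 2], [0, 2], [0, 1],
   [0, 1, 2], [1, 2], [0, 1, 2], [0, 1], [0, 1, 2], [0, 1], [1], [0, 1]],
   [[0, 1, 2], [0, 1, 2], [1, 2], [0, 1, 2], [1, 2], [0, 1], [0, 1], [0, 1, 2], [2], [0, 2],
   [1, 2], [0, 1, 2], [0, 2], [0, 1], [1, 2], [0, 1, 2], [0, 1, 2], [0, 1, 2], [0, 1, 2], [1, 2],
   [0], [2], [1], [0, 2], [0, 1, 2], [0, 2], [2], [0, 2], [0, 1], [0, 1, 2], [0, 1, 2],
   [0, 1, 2], [0, 1], [0, 1], [2], [0, 1, 2], [0], [0, 1, 2], [0, 1, 2], [0, 2], [1], [1, 2],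
   [2], [1, 2], [0, 2], [0, 1, 2], [0], [0, 1], [2], [0], [2], [0, 1, 2], [0, 2], [0, 1, 2],
   [0, 2], [0, 1], [0], [0, 1], [1], [0, 1], [0, 1, 2], [1, 2], [0], [0, 1], [0, 2], [1],
   [0, 1, 2], [0], [1], [0, 1], [1, 2], [0, 1], [0, 1, 2], [0, 1, 2], [0], [0, 1, 2], [0, 1],
   [0, 1], [0, 1, 2], [0], [1, 2], [1], [], [2], [0, 1, 2], [0, 2], [0, 2], [1], [1], [0, 1, 2],
   [0, 2], [0, 2], [1], [2], [0], [0, 1], [0, 2], [1, 2], [0, 2], [0], [2], [], [], [], [0, 2],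
   [0, 1], [2], [0, 1, 2], [2], [0, 1], [0, 1, 2], [1, 2], [2], [1, 2], [0], [0], [0, 2],
   [0, 1, 2], [1], [1], [0, 1], [], [2], [1, 2], [0, 1], [0, 1, 2], [0, 1, 2], [0, 1], [0, 1],
   [0, 2], [0, 2], [0], [0, 2], [], [0, 1], [0, 1, 2], [0, 1, 2], [], [1], [1, 2], [], [],
   [0, 1], [1, 2], [1], [0, 2], [0, 1], [0, 1], [0, 2], [0, 2], [], [0, 1], [0], [0, 2], [0],
   [2], [0], [], [1, 2], [0, 1], [1, 2], [1]],
   [[0, 1], [0, 1], [0, 1], [0, 2], [0, 1, 2], [0], [0, 1], [0, 2], [1, 2], [2], [0], [1], [1, 2],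
   [1], [], [2], [0, 1], [0, 1], [2], [0], [0], [1, 2], [2], [2], [2], [0, 1, 2], [1, 2], [0],
   [0], [], [], [], [0, 2], [2], [2], [], [0], [0, 1, 2], [2], [1, 2], [1, 2], [0, 2], [0, 2],
   [2], [], [1], [1, 2], [2], [0, 1], [1, 2], [0], [], [0], [2], [0], [2], [], [1], [0], [0],
   [1], [1, 2], [], [1, 2], [1], [1, 2], [2], [0, 2], [2], [], [0], [], [0], [0, 2], [], [], [0],
   [0, 1], [1, 2], [0], [2], [0, 1], [2], [0], [], [2], [], [1], [], [0, 1], [2], [0, 1], [2],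
   [], [0, 1], [0], [1], [1, 2], [0], [1], [], [2], [1], [], [], [1, 2], [1], [0], [2], [1],
   [1, 2], [1], [], [0], [], [], [], [1, 2], [2], [0, 1, 2], [1], [0], [1, 2], [0], [2], [0],
   [1], [2], [1], [2], [0, 2], [1], [], [], [1, 2], [], [2], [1], [1], [1], [1], [2], [0, 1, 2],
   [1], [], [0], [2], [], [0], [1], [0], [], [], [], [1], [], [2], [], [0], [0], [0, 2], [], [1],
   [], [0], [0], [], [], [], [0, 1], [0, 1], [], [1, 2], [], [0], [1, 2], [], [], [1], [0, 1],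
   [0], [], [], [1], [0, 1], [0], [1, 2], [2], [], [], [1], [2], [2], [], [0], [], [], [2], [1],
   [], [2], [2], [0], [1], [0], [1], [], [2], [0], [], [0], [], [1, 2], [], [1], [], [], [], [2],
   [], [], [0, 1], [0], [1, 2], [], [0], [0], [2], [], [], [0], [1], [], [], [], [], [0], [], [],
   [2], [0, 1], [], [], [], [], [0], [], [0, 1], [2], [], [], [], [0], [], [], [], [], [], [2],
   [1], [1], [], [], [0], [], [], [2], [0], [0], [1], [], [], [], [1], [], [1, 2], [], [], [1],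
   [], [2], [], [2], [], [], [2], [1], [0, 1], [], []],
   [[], [0], [], [1], [], [], [], [2], [], [1], [], [], [], [], [2], [], [], [], [], [1], [], [],
   [], [1], [], [2], [], [], [], [], [2], [1], [], [], [], [], [], [], [], [], [], [1], [], [],
   [], [], [0], [0], [0], [], [], [], [], [], [], [], [], [], [0, 1], [], [], [], [0], [], [],
   [], [], [], [], [], [], [], [2], [1], [], [1], [], [], [], [], [], [2], [], [], [], [], [],
   [], [], [0], [], [], [], [], [], [], [2], [], [], [], [], [0], [2], [], [], [], [], [], [],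
   [], [1], [], [], [], [], [], [], [], [], [], [], [], [], [], [], [], [], [], [], [], [0], [0],
   [], [], [], [0], [], [], [], [], [], [], [], [], [], [], [], [0], [], [], [], [], [], [], [],
   [], [], [], [], [], [], [], [], [], [], [], [], [], [], [], [], [], [], [], [], [], [], [],
   [], [], [], [], [], [], [], [], [], [], [], [], [], [], [], [], [], [], [], [], [], [], [],
   [], [], [], [], [], [], [], [], [], [], [], [], [], [], [], [], [], [], [], [], [], [], [],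
   [], [], [], [], [], [], [], [0], [], [], [], [], [], [], [], [], [], [], [], [], [], [], [],
   [], [], [], [], [], [], [], []]]

/-- Representative of orbit 1 of `octSext`. -/
def octSextRep1 : List ℕ := [0x53, 0x42880, 0x104104, 0x210028, 0x488400, 0x821200]

/-- Layers of orbit 2 (size 896) of `octSext`. -/
def octSextPlan2 : List (List (List ℕ)) :=
  [[[0, 1, 2]],
   [[0, 1, 2], [0, 1, 2], [0, 1, 2]],
   [[0, 1, 2], [0, 1, 2], [0, 2], [0, 1, 2], [0, 1], [0, 1, 2], [0, 1, 2], [0, 1, 2], [0, 1, 2]],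
   [[0, 1, 2], [0, 1], [0, 1, 2], [0, 1, 2], [0, 1, 2], [0, 1, 2], [0, 1, 2], [0, 1, 2], [0, 1, 2],
   [0, 1, 2], [0, 1], [0, 2], [0, 1, 2], [0, 1, 2], [0, 1, 2], [0, 1], [1, 2], [0, 1, 2],
   [0, 1, 2], [0, 1, 2], [0, 1, 2], [0, 1, 2], [0, 1, 2], [0, 1, 2], [0, 1]],
   [[0, 1, 2], [0, 1, 2], [1, 2], [1, 2], [0, 1, 2], [0, 1, 2], [0, 1, 2], [0, 1], [0, 2], [1, 2],
   [0, 1, 2], [0, 1, 2], [0, 1, 2], [0, 1, 2], [2], [0, 1, 2], [0, 1, 2], [1, 2], [0, 1, 2],
   [0, 1, 2], [0, 1, 2], [0, 1, 2], [0, 1], [0, 1, 2], [0, 1, 2], [0, 1, 2], [0, 1, 2],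
   [0, 1, 2], [0, 2], [0, 1], [0, 1, 2], [0, 2], [0, 1, 2], [0, 1], [0, 1, 2], [1], [1],
   [0, 1, 2], [0, 1, 2], [0], [0, 1, 2], [0, 1, 2], [0, 1, 2], [0, 1, 2], [0, 2], [1, 2], [1, 2],
   [0, 2], [0, 1, 2], [0, 1, 2], [1, 2], [0, 1, 2], [0, 1, 2], [0, 1, 2], [1], [1], [0, 1, 2],
   [0, 1, 2], [1, 2], [0, 1, 2], [0, 1, 2], [1, 2], [0, 1, 2], [0, 1, 2], [1, 2], [0, 2], [1, 2],
   [0, 1, 2], [1, 2]],
   [[1, 2], [0, 1, 2], [0, 1, 2], [1, 2], [0, 1, 2], [0, 1], [1, 2], [1], [0, 1, 2], [2], [0, 1],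
   [0, 1, 2], [0], [1, 2], [0, 1, 2], [0, 2], [1, 2], [1, 2], [0, 2], [0, 1, 2], [0, 2], [1],
   [0, 2], [0, 1], [0, 1, 2], [0, 2], [0, 1, 2], [0, 1, 2], [0, 1, 2], [0], [1], [0, 1, 2],
   [0, 2], [0, 2], [1], [0, 1], [0, 2], [0, 2], [2], [], [0, 1, 2], [0], [1, 2], [0], [0, 1],
   [1, 2], [0, 2], [0, 1], [0, 1, 2], [0, 1, 2], [0], [1, 2], [], [1], [0, 1, 2], [1], [0, 1],
   [0, 1], [], [0, 1, 2], [0, 1, 2], [1, 2], [0, 2], [1, 2], [0, 1, 2], [0, 1, 2], [1, 2], [2],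
   [0, 1], [0, 2], [1], [0, 1], [0, 1, 2], [1, 2], [0, 1], [0, 1, 2], [1], [2], [0, 1], [0, 1],
   [0, 1], [0, 1], [0, 1], [0], [0, 1], [0, 1, 2], [0, 1, 2], [0], [0, 2], [2], [0, 2],
   [0, 1, 2], [0, 1, 2], [0, 1], [2], [0], [2], [0, 2], [0], [1], [0, 1, 2], [0, 1, 2], [],
   [0, 1, 2], [1], [0, 2], [0, 1, 2], [1, 2], [0, 1], [1], [0, 1], [1, 2], [1], [0, 1], [0, 2],
   [0, 1, 2], [0], [0, 1, 2], [2], [1], [0, 1, 2], [2], [2], [0, 1, 2], [2], [1], [0, 1, 2],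
   [1, 2], [0, 1, 2], [1, 2], [1], [], [0], [0, 1], [1], [2], [1, 2], [0, 2], [2], [], [], [1],
   [], [1, 2], [0, 2], [0, 1], [1, 2], [1, 2], [0, 2], [0, 1], [2], [0, 1, 2], [0, 2], [0, 1],
   [0, 2], [], [0, 1], [1], [1, 2], [1, 2], [0, 2], [0, 2], [2], [0], [0, 1, 2], [1, 2], [0, 2],
   [1], [], [0], [], [1, 2], [1]],
   [[], [], [0, 1], [0, 1, 2], [0], [0, 1, 2], [1, 2], [1], [0, 1, 2], [2], [1, 2], [1], [1], [],
   [2], [0, 1, 2], [], [0, 1, 2], [0, 1], [], [0, 2], [0], [2], [], [0, 1], [2], [0, 2], [0],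
   [2], [0], [0, 1], [0, 1, 2], [], [0, 1, 2], [1, 2], [0, 1], [0, 1, 2], [], [0, 1], [2],
   [0, 2], [2], [2], [0, 1], [2], [0, 1], [1, 2], [1], [0], [2], [0], [2], [0, 1, 2], [1, 2],
   [1, 2], [1, 2], [], [2], [2], [], [1], [0], [1], [1, 2], [1], [0, 1], [0, 2], [1], [0, 1, 2],
   [1], [], [2], [0, 1], [0, 1, 2], [1, 2], [], [], [0, 1], [0, 1], [2], [0, 2], [1], [0], [0],
   [1], [1, 2], [2], [0], [1, 2], [], [0, 1], [], [2], [2], [1], [], [], [0], [1], [0], [], [],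
   [1, 2], [0], [], [0], [1, 2], [], [], [], [1], [2], [1, 2], [1], [0, 2], [2], [0, 2], [1, 2],
   [], [2], [1], [1], [], [], [], [1], [1], [], [1, 2], [0, 1, 2], [], [2], [0, 1], [], [1], [],
   [], [1], [1], [0, 1, 2], [1], [], [0, 1], [], [], [0], [0], [1], [0], [], [1], [0], [],
   [1, 2], [], [], [], [0], [2], [0, 1], [], [0], [2], [2], [], [2], [], [], [], [], [], [2],
   [2], [], [], [], [0], [], [0, 2], [1, 2], [], [], [], [0], [], [2], [], [], [0], [], [1], [],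
   [], [], [0], [], [], [1], [], [0], [], [0], [1], [], [], [2], [], [1], [], [], [0, 1, 2], [0],
   [], [], [2], [], [], [], [0, 1], [], [], [1, 2], [2], [], [0, 1, 2], [], [], [1], [0], [0],
   [], [], [], [], [], [], [], [], [], [0, 1, 2], [], [], [0], [0], [], [0, 1], [], [0], [2],
   [1], [], [0], [], [], [], [], [2], [1, 2], [], [2], [1], [], [0], [], [], [], [], [], [], [0],
   [0, 1], [0, 1], [], [0], [0], [0], [], [], [], [], [], [2], [], [0, 1], [0, 1], [1], [], [],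
   [], [], [0], [], [], [], [], [], [], [], [0], [], [], [], [], [], [], [], [], [1], [], [1],
   [], [0, 2], [1], []],
   [[1], [1], [], [1], [2], [], [], [], [1], [1], [], [], [0], [], [], [2], [], [], [], [1], [],
   [2], [], [], [], [1], [], [0], [1], [], [2], [], [], [], [], [], [], [], [], [], [], [], [],
   [], [], [], [], [], [], [], [], [], [], [], [], [], [], [], [], [1], [], [0], [], [], [], [],
   [1], [], [1], [], [], [], [], [], [0, 1], [], [], [], [], [], [], [0], [], [], [0], [], [],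
   [], [], [], [], [], [], [], [], [1], [], [], [], [], [], [], [], [], [], [0], [1], [], [0],
   [], [], [], [0], [], [], [], [2], [], [1], [], [], [1], [2], [], [], [], [], [0], [1], [], [],
   [], [], [], [], [], [], [], [], [], [], [], [], [], [], [], [0], [], [], [], [], [], [], [],
   [], [], [], [], [], [1], [], [], [], [], [], [], [], [2], [], [], [], [], [], [], [], [2], [],
   [], [], [], [], [], [2], [], [0], [], [], [], [], [], [], [], [], [], [], [], [], [], [], [],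
   [], [], [], [], [], [], [], [], [], [], [], [], [], [], [], [], [], [], [], [], [], [], [],
   [], [], [], [], [], [], [], [], [], [], [], [], [], [1], [], [], [], [], [], [], [], [], [],
   [], [], [], [], [], [], [], [], [], [], [], [], [], [], [], []]]

/-- Representative of orbit 2 of `octSext`. -/
def octSextRep2 : List ℕ := [0x17, 0x1488, 0xc0220, 0x104140, 0x228800, 0xc12000]

/-- The orbits of `octSext`. -/
def octSextData : List (List ℕ × List (List (List ℕ))) :=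
  [(octSextRep0, octSextPlan0), (octSextRep1, octSextPlan1), (octSextRep2, octSextPlan2)]

end Cfsg.Agent.GolayOrbitLists
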