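/-
Splittings of a stable set into three or four orbits, read off from certified lists.

Main results: `three_orbits`, `four_orbits`.
-/
import Cfsg.Agent.Lib.GolayOrbitLists.Objects

set_option autoImplicit false
open scoped Pointwise
open Cfsg MulAction Cfsg.Agent.Golay

namespace Cfsg.Agent.GolayOrbitLists

/-- The hypotheses of `orbits_at` in one bundle. -/
def Certified (A0 gens : List ℕ) (D : List (List ℕ × List (List (List ℕ)))) (Ω : Set Obj) : Prop :=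
  fixesObj A0 gens = true ∧ check gens D = true ∧
    (D.map fun e => weight4 (obj A0) (obj e.1)).Nodup ∧ (∀ e ∈ D, obj e.1 ∈ Ω) ∧
    Ω.ncard = (D.flatMap (orbitList gens)).length

theorem three_orbits {A0 gens : List ℕ} {e₁ e₂ e₃ : List ℕ × List (List (List ℕ))} {Ω : Set Obj}
    (hC : Certified A0 gens [e₁, e₂, e₃] Ω) (hΩ : ∀ h : ↥M24, ∀ X ∈ Ω, h • X ∈ Ω)
    {A : Obj} (hA : ∃ t : ↥M24, t • obj A0 = A) {n₁ n₂ n₃ : ℕ}
    (h₁ : (orbitList gens e₁).length = n₁) (h₂ : (orbitList gens e₂).length = n₂)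
    (h₃ : (orbitList gens e₃).length = n₃) :
    ∃ X₁ ∈ Ω, ∃ X₂ ∈ Ω, ∃ X₃ ∈ Ω, (orbit (stabilizer M24 A) X₁).ncard = n₁ ∧
      (orbit (stabilizer M24 A) X₂).ncard = n₂ ∧ (orbit (stabilizer M24 A) X₃).ncard = n₃ ∧
      Ω = orbit (stabilizer M24 A) X₁ ∪ orbit (stabilizer M24 A) X₂ ∪
        orbit (stabilizer M24 A) X₃ := by
  obtain ⟨t, rfl⟩ := hA
  obtain ⟨hf, hc, hj, hr, hn⟩ := hC
  obtain ⟨hcov, horb⟩ := orbits_at hf hc hj hΩ hr hn t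
  obtain ⟨a₁, b₁, c₁⟩ := horb e₁ (by simp)
  obtain ⟨a₂, b₂, c₂⟩ := horb e₂ (by simp)
  obtain ⟨a₃, b₃, c₃⟩ := horb e₃ (by simp)
  refine ⟨_, a₁, _, a₂, _, a₃, c₁.trans h₁, c₂.trans h₂, c₃.trans h₃,
    subset_antisymm (fun X hX => ?_) (Set.union_subset (Set.union_subset b₁ b₂) b₃)⟩
  obtain ⟨e, he, hm⟩ := hcov X hX
  simp only [List.mem_cons, List.not_mem_nil, or_false] at he
  rcases he with rfl | rfl | rfl
  · exact Or.inl (Or.inl hm)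
  · exact Or.inl (Or.inr hm)
  · exact Or.inr hm

theorem four_orbits {A0 gens : List ℕ} {e₁ e₂ e₃ e₄ : List ℕ × List (List (List ℕ))} {Ω : Set Obj}
    (hC : Certified A0 gens [e₁, e₂, e₃, e₄] Ω) (hΩ : ∀ h : ↥M24, ∀ X ∈ Ω, h • X ∈ Ω)
    {A : Obj} (hA : ∃ t : ↥M24, t • obj A0 = A) {n₁ n₂ n₃ n₄ : ℕ}
    (h₁ : (orbitList gens e₁).length = n₁) (h₂ : (orbitList gens e₂).length = n₂)
    (h₃ : (orbitList gens e₃).length = n₃) (h₄ : (orbitList gens e₄).length = n₄) :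
    ∃ X₁ ∈ Ω, ∃ X₂ ∈ Ω, ∃ X₃ ∈ Ω, ∃ X₄ ∈ Ω, (orbit (stabilizer M24 A) X₁).ncard = n₁ ∧
      (orbit (stabilizer M24 A) X₂).ncard = n₂ ∧ (orbit (stabilizer M24 A) X₃).ncard = n₃ ∧
      (orbit (stabilizer M24 A) X₄).ncard = n₄ ∧
      Ω = orbit (stabilizer M24 A) X₁ ∪ orbit (stabilizer M24 A) X₂ ∪
        orbit (stabilizer M24 A) X₃ ∪ orbit (stabilizer M24 A) X₄ := by
  obtain ⟨t, rfl⟩ := hA
  obtain ⟨hf, hc, hj, hr, hn⟩ := hC
  obtain ⟨hcov, horb⟩ := orbits_at hf hc hj hΩ hr hn t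
  obtain ⟨a₁, b₁, c₁⟩ := horb e₁ (by simp)
  obtain ⟨a₂, b₂, c₂⟩ := horb e₂ (by simp)
  obtain ⟨a₃, b₃, c₃⟩ := horb e₃ (by simp)
  obtain ⟨a₄, b₄, c₄⟩ := horb e₄ (by simp)
  refine ⟨_, a₁, _, a₂, _, a₃, _, a₄, c₁.trans h₁, c₂.trans h₂, c₃.trans h₃, c₄.trans h₄,
    subset_antisymm (fun X hX => ?_)
      (Set.union_subset (Set.union_subset (Set.union_subset b₁ b₂) b₃) b₄)⟩
  obtain ⟨e, he, hm⟩ := hcov X hX
  simp only [List.mem_cons, List.not_mem_nil, or_false] at he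
  rcases he with rfl | rfl | rfl | rfl
  · exact Or.inl (Or.inl (Or.inl hm))
  · exact Or.inl (Or.inl (Or.inr hm))
  · exact Or.inl (Or.inr hm)
  · exact Or.inr hm

end Cfsg.Agent.GolayOrbitLists
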