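/-
Orbit plans for the stabiliser of an octad on trios, produced by a search program and checked by the
kernel where used: for each layer and each of its members, the generators leading to new members.
-/
import Cfsg.Agent.EqLemmas

set_option autoImplicit false
set_option maxRecDepth 20000

namespace Cfsg.Agent.GolayOrbitLists

/-- Generators for `octTrio`. -/
def octTrioGens : List ℕ :=
  [
    0x8da8b6201278d44ab4e934053b95c1, 
    0x8c8d43b42c78964b29309d6e800cae, 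
    0xce8fb22262164baa5a75404cbb860]

/-- Layers of orbit 0 (size 15) of `octTrio`. -/
def octTrioPlan0 : List (List (List ℕ)) :=
  [[[1]],
   [[0, 1, 2]],
   [[0, 2], [1], [0]],
   [[], [0, 1], [0], [2]],
   [[], [0], [1], []]]

/-- Representative of orbit 0 of `octTrio`. -/
def octTrioRep0 : List ℕ := [0x527c0, 0x789810, 0x82402f]

/-- Layers of orbit 1 (size 420) of `octTrio`. -/
def octTrioPlan1 : List (List (List ℕ)) :=
  [[[0, 1, 2]],
   [[0, 1, 2], [0, 1, 2], [0, 1, 2]],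
   [[0, 1, 2], [0, 1, 2], [0, 1, 2], [0, 1, 2], [1, 2], [0, 1, 2], [0, 1, 2], [0, 1, 2], [1, 2]],
   [[0, 1, 2], [0, 1, 2], [0, 1, 2], [1, 2], [0, 1, 2], [0, 2], [0, 1, 2], [0, 1, 2], [0, 2], [2],
   [0, 1, 2], [0, 1, 2], [], [0, 1, 2], [0], [0, 1, 2], [0, 1], [2], [0, 1], [0, 1, 2],
   [0, 1, 2], [0], [1, 2], [0, 2], [0, 1, 2]],
   [[0, 1, 2], [0], [0, 1, 2], [1, 2], [0, 1, 2], [0, 1, 2], [0, 1], [0, 1, 2], [1, 2], [0, 2],
   [0, 1, 2], [0, 1, 2], [0], [0, 1, 2], [0, 1, 2], [0, 1, 2], [1, 2], [0, 2], [0, 1, 2], [1, 2],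
   [0, 1, 2], [0, 1, 2], [0, 1], [1], [0, 1, 2], [0, 1], [0, 1, 2], [1, 2], [0, 1, 2], [0, 2],
   [0, 1], [0, 1], [0, 1, 2], [0], [1, 2], [0, 1, 2], [0, 1, 2], [1, 2], [0, 1, 2], [0, 1, 2],
   [0, 1, 2], [0, 1], [1, 2], [0, 1], [2], [], [0, 1, 2], [0, 1, 2], [0, 1, 2], [1, 2], [2],
   [1, 2], [1, 2], [0, 2], [0, 1], [1], [0, 1, 2]],
   [[1], [1, 2], [0, 2], [0, 2], [0, 1, 2], [], [2], [2], [0, 1, 2], [0, 1], [2], [1, 2], [],
   [1, 2], [], [1, 2], [0, 2], [0, 1], [0], [1, 2], [0, 1], [], [2], [0, 1, 2], [0, 1], [0, 1],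
   [1], [0, 1], [2], [1], [2], [], [0, 2], [0], [0, 1, 2], [2], [1, 2], [0, 1, 2], [0], [2], [2],
   [2], [1], [0], [2], [], [0, 2], [0, 2], [0, 1], [2], [0], [], [0, 1], [2], [], [2], [0], [],
   [], [], [], [2], [0], [1], [0, 2], [0, 1, 2], [0], [1], [0, 1, 2], [0], [0, 1, 2], [0, 1], [],
   [1], [0, 1], [1, 2], [], [1, 2], [0], [1, 2], [], [0], [1], [2], [], [], [], [], [0], [], [0],
   [], [], [], [1], [], [], [0, 2], [0], [], [1], [1], [0], [], [], [0], [1], [], [1, 2], [],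
   [1, 2], [], [1], [1], [2], [1], [2], [], [], [], [1], [0, 2], [], [0], [2], [], [], [0, 2],
   [], [1, 2], []],
   [[], [], [], [], [], [0, 1, 2], [], [1], [], [1], [], [2], [0, 2], [0], [0], [2], [], [2],
   [0, 1], [], [0], [1], [], [], [1], [], [2], [], [], [1, 2], [0], [], [], [0], [], [0, 1], [],
   [], [0], [0], [0, 2], [], [], [], [0], [], [], [], [], [0], [], [0], [1], [], [0], [1], [2],
   [0], [], [1, 2], [], [], [], [], [], [], [], [], [], [2], [], [], [], [0, 2], [2], [], [], [],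
   [], [], [1], [], [], [], [], [2], [], [], [0], [], [], [], [], [], [], [], [1], [], [], [],
   [], [], [], [], [], [], [], [], [], [], [], [], [], [], [], [0], [], [], [], [], [1], [], [2],
   [0], [], [], [], [], [], [], [], [1], [], [], [], [], [], [2], [], []],
   [[], [], [1], [], [], [], [], [], [], [0], [], [], [], [], [], [], [], [], [], [], [], [], [],
   [], [], [], [], [], [], [], [], [], [], [], [], [], [], [], [], [], [], [], [], [], [], [],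
   [], [], [], [], [], []]]

/-- Representative of orbit 1 of `octTrio`. -/
def octTrioRep1 : List ℕ := [0x149f, 0x3da100, 0xc24a60]

/-- Layers of orbit 2 (size 3360) of `octTrio`. -/
def octTrioPlan2 : List (List (List ℕ)) :=
  [[[0, 1, 2]],
   [[0, 1, 2], [0, 1, 2], [0, 1, 2]],
   [[0, 1, 2], [0, 1, 2], [0, 1, 2], [0, 1, 2], [0, 1, 2], [0, 1, 2], [0, 1, 2], [0, 1, 2], [1, 2]],
   [[0, 1, 2], [0, 1, 2], [0, 1, 2], [0, 1, 2], [0, 1, 2], [0, 1, 2], [0, 1, 2], [0, 1, 2],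
   [0, 1, 2], [0, 2], [0, 1, 2], [0, 1, 2], [0, 1, 2], [0, 2], [0, 1, 2], [0, 1, 2], [0, 1, 2],
   [0, 1, 2], [0, 1, 2], [0, 1, 2], [0, 1, 2], [0, 1, 2], [0, 1, 2], [0, 1, 2], [0, 1, 2],
   [0, 1, 2]],
   [[0, 1, 2], [0, 1, 2], [0, 1, 2], [0, 1, 2], [0, 2], [0, 1, 2], [0, 1, 2], [0, 1, 2], [0, 1, 2],
   [0, 1, 2], [0, 1, 2], [0, 1, 2], [0, 1, 2], [0, 2], [0, 1, 2], [0, 1, 2], [0, 1, 2],
   [0, 1, 2], [0, 1, 2], [0, 1, 2], [0, 1], [0, 1, 2], [0, 1], [0, 1, 2], [0, 1, 2], [0, 1, 2],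
   [0, 1, 2], [0, 1, 2], [0, 1, 2], [0, 1, 2], [1, 2], [0, 1, 2], [0, 1, 2], [0, 1, 2],
   [0, 1, 2], [0, 2], [0, 1, 2], [0, 1, 2], [0, 1, 2], [0, 1, 2], [0, 1, 2], [0, 1, 2],
   [0, 1, 2], [0, 1, 2], [0, 1, 2], [0, 2], [0, 1, 2], [0, 1, 2], [0, 1, 2], [0, 1, 2],
   [0, 1, 2], [0, 1, 2], [0, 1, 2], [0, 1, 2], [0, 1, 2], [0, 1, 2], [0, 1, 2], [0, 1, 2],
   [0, 1, 2], [0, 1, 2], [0, 1, 2], [0, 1, 2], [0, 1, 2], [0, 1, 2], [0, 1, 2], [0, 2],
   [0, 1, 2], [0, 1, 2], [0, 1, 2], [0, 1, 2], [0, 1, 2], [0, 1, 2], [0, 1, 2], [0, 1, 2],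
   [0, 1, 2], [0, 1, 2]],
   [[1, 2], [1, 2], [0, 1, 2], [0, 1, 2], [0, 1, 2], [0, 2], [0, 1, 2], [0, 2], [1, 2], [0, 1],
   [0, 1], [0, 2], [0, 1, 2], [0, 1, 2], [0, 1, 2], [0, 1, 2], [0, 1, 2], [1, 2], [0, 1, 2],
   [0, 1, 2], [0, 1, 2], [0, 1, 2], [1, 2], [0, 1, 2], [0, 1], [1, 2], [0, 1, 2], [0, 1, 2],
   [0, 1, 2], [1, 2], [0, 1, 2], [0, 1, 2], [0, 1, 2], [0, 1, 2], [0, 1, 2], [0, 1, 2],
   [0, 1, 2], [0, 1, 2], [0, 2], [1, 2], [0, 1], [0, 2], [0, 1, 2], [0, 1, 2], [0, 1, 2],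
   [0, 1, 2], [0, 1, 2], [0, 1, 2], [0, 1, 2], [0, 1, 2], [0, 1, 2], [0, 2], [0, 1, 2],
   [0, 1, 2], [0, 2], [0, 1, 2], [0, 1, 2], [0, 1, 2], [0, 1], [0, 1, 2], [0, 1, 2], [0, 1, 2],
   [0, 1, 2], [0, 2], [0, 2], [0, 1, 2], [0, 2], [0, 2], [0, 2], [0, 1, 2], [0, 1, 2], [0, 1, 2],
   [0, 1, 2], [1, 2], [0, 1, 2], [0, 1, 2], [0, 1, 2], [0, 1, 2], [0, 1, 2], [0, 1, 2],
   [0, 1, 2], [2], [0, 1, 2], [0, 1, 2], [0, 1, 2], [0, 1, 2], [0, 2], [0, 1, 2], [1, 2],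
   [0, 1, 2], [0, 1, 2], [0, 1, 2], [0, 1, 2], [0, 1, 2], [0, 1, 2], [0, 1, 2], [0, 1, 2],
   [0, 1, 2], [0, 1, 2], [0, 1, 2], [0, 1, 2], [0, 1, 2], [0, 2], [1], [1, 2], [1, 2], [0, 1, 2],
   [0, 1, 2], [0, 1, 2], [0, 1, 2], [0, 1], [0, 1, 2], [0, 1, 2], [0, 1, 2], [1, 2], [0, 1, 2],
   [1, 2], [0, 1, 2], [2], [0, 1, 2], [0, 1, 2], [0, 1], [2], [0, 1, 2], [0, 1, 2], [0, 1, 2],
   [0, 1, 2], [0, 1, 2], [0, 1, 2], [0, 1, 2], [0, 1, 2], [0, 1, 2], [1, 2], [0, 1, 2],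
   [0, 1, 2], [0, 2], [0, 1], [0, 1, 2], [0, 1], [0, 1, 2], [0, 1, 2], [0, 1, 2], [0, 1, 2],
   [0, 1, 2], [0, 1, 2], [1], [1, 2], [1, 2], [0, 1, 2], [0, 1, 2], [0, 1, 2], [0, 1, 2],
   [0, 1, 2], [0, 1, 2], [0, 1, 2], [0, 1, 2], [0, 1, 2], [0], [0, 2], [0, 1, 2], [0, 2],
   [0, 1, 2], [0, 2], [2], [1, 2], [0, 1, 2], [1, 2], [0, 2], [2], [0, 1, 2], [0, 1, 2],
   [0, 1, 2], [0, 1, 2], [0, 1, 2], [0, 1, 2], [2], [0, 1, 2], [0, 1, 2], [1, 2], [1, 2],
   [0, 1, 2], [0, 1, 2], [0, 1, 2], [0, 2], [1, 2], [0, 1, 2], [1, 2], [1], [0, 1, 2], [0, 2],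
   [0, 2], [1, 2], [2], [0, 1, 2], [0, 1], [2], [0, 1, 2], [0, 1, 2], [0, 2], [0, 2], [0, 1],
   [0, 1, 2], [0, 1, 2], [0, 1, 2], [], [0, 1, 2], [0, 2], [0, 1, 2], [0, 1, 2], [0, 1, 2], [2],
   [1, 2], [0, 1, 2], [0, 1, 2], [1], [0, 1, 2], [0, 1, 2], [0, 1, 2], [0, 1, 2], [0, 1]],
   [[1], [0, 1, 2], [1, 2], [0, 1, 2], [0, 1, 2], [0, 1, 2], [1, 2], [0, 1, 2], [1, 2], [0, 1, 2],
   [0, 1, 2], [0, 2], [0, 1, 2], [0, 1, 2], [0, 1], [0, 2], [0, 1, 2], [0, 1, 2], [0, 2], [0, 1],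
   [0, 1, 2], [0], [0, 1, 2], [0, 2], [0, 2], [0], [0, 1, 2], [0, 2], [0, 1, 2], [0, 1],
   [0, 1, 2], [1], [0, 1, 2], [0, 1, 2], [0, 2], [0, 1, 2], [1, 2], [0, 1], [0, 1], [0, 1, 2],
   [1, 2], [0, 1, 2], [0, 2], [1, 2], [0, 1, 2], [2], [0, 1, 2], [0, 2], [0, 1, 2], [0, 2],
   [0, 1, 2], [0], [0, 1, 2], [0, 1, 2], [0, 1, 2], [0, 2], [0, 2], [0, 1, 2], [0, 2], [0, 2],
   [0, 1, 2], [0], [0, 2], [0, 1], [0, 2], [0, 1, 2], [1, 2], [2], [0, 1, 2], [0, 1, 2],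
   [0, 1, 2], [0, 2], [0, 1, 2], [0, 1, 2], [0, 1, 2], [0, 1, 2], [1, 2], [0, 1, 2], [0, 2],
   [0, 1, 2], [0, 1, 2], [0, 1, 2], [], [1, 2], [1, 2], [0, 2], [0, 2], [0, 1, 2], [0, 1],
   [0, 1], [2], [0, 1, 2], [1], [1], [0, 1, 2], [0, 2], [1, 2], [0, 1, 2], [0, 1], [1], [0, 1],
   [0, 1, 2], [0, 2], [0, 2], [0, 1, 2], [0, 1], [1, 2], [0, 1, 2], [1, 2], [0, 1, 2], [0, 1, 2],
   [0], [1, 2], [0, 1, 2], [0, 1, 2], [0, 1], [2], [0, 1, 2], [0], [0, 2], [0, 1], [0, 1],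
   [0, 1], [0, 1, 2], [0, 1, 2], [0, 2], [0, 2], [0, 1, 2], [0, 1, 2], [0, 1, 2], [0, 1, 2],
   [0, 1, 2], [2], [], [0, 1, 2], [0, 1], [0, 1, 2], [1, 2], [0, 1], [0, 1, 2], [0, 1, 2], [0],
   [1, 2], [1, 2], [0, 2], [0, 1, 2], [], [0], [0, 1, 2], [0, 1, 2], [0, 2], [0, 1, 2], [1],
   [0, 1], [0, 1, 2], [2], [0, 1], [0, 2], [0, 1], [1], [0, 1, 2], [0, 1, 2], [0, 2], [0, 1, 2],
   [0, 2], [0, 2], [0, 1], [0, 1, 2], [0, 1], [0, 1, 2], [0, 1, 2], [0, 1, 2], [0, 2], [0, 2],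
   [1, 2], [0, 1, 2], [0, 2], [2], [0, 1, 2], [], [0, 1], [0, 1, 2], [0, 1, 2], [0, 1, 2],
   [0, 1, 2], [1], [1, 2], [2], [2], [1, 2], [0, 2], [0, 1, 2], [], [1, 2], [1], [0, 2], [],
   [1, 2], [0, 1, 2], [0, 2], [1, 2], [0, 1], [0, 1], [0, 2], [0, 1], [1, 2], [1, 2], [0, 2],
   [0, 1, 2], [], [0, 2], [0, 2], [0, 1], [0, 1], [0, 2], [1], [1, 2], [0, 2], [0, 2], [0, 2],
   [0, 2], [1, 2], [0, 1, 2], [1, 2], [1, 2], [0, 1, 2], [1, 2], [0, 2], [2], [0, 2], [1, 2],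
   [1], [0, 1, 2], [0, 1, 2], [1, 2], [0, 1, 2], [0, 1], [1], [0, 1, 2], [0, 1], [0, 1, 2],
   [0, 1, 2], [1], [0, 1, 2], [0, 2], [0, 1, 2], [2], [0, 1], [0, 2], [0, 1], [0, 1, 2], [1, 2],
   [0, 1, 2], [1, 2], [2], [1], [], [0, 1, 2], [1, 2], [1, 2], [1, 2], [0, 2], [0, 2], [0, 1],
   [0], [0, 2], [], [0], [1], [0, 1, 2], [0, 1, 2], [], [2], [0], [0], [0, 1, 2], [0, 1, 2],
   [0, 2], [0, 2], [0, 1, 2], [0, 2], [0, 2], [0, 1], [0, 2], [0, 1], [0, 1], [], [0, 1, 2], [0],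
   [0, 1], [0, 1, 2], [0, 2], [0, 2], [1, 2], [1], [1], [0, 1, 2], [1, 2], [0, 1], [0, 1],
   [1, 2], [0, 1, 2], [0, 1, 2], [], [0, 1], [0, 1, 2], [1, 2], [0, 1, 2], [1, 2], [], [0, 2],
   [0, 1], [0, 1], [1, 2], [0, 2], [0, 1, 2], [0], [1], [0, 2], [0, 1, 2], [0, 1, 2], [0, 2],
   [1], [1, 2], [0, 1], [0, 1, 2], [0, 1], [0, 2], [2], [0, 1], [2], [1, 2], [0, 1], [0, 1, 2],
   [0, 1], [1, 2], [2], [0, 1, 2], [1], [0, 2], [1, 2], [2], [2], [0, 1, 2], [0, 1, 2], [0, 2],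
   [0, 1, 2], [0, 1, 2], [0, 2], [2], [0, 1, 2], [1, 2], [0, 2], [], [0, 2], [0, 1, 2], [1, 2],
   [2], [0, 1], [0, 1], [], [0, 2], [0, 1], [1, 2], [], [1], [1, 2], [0, 1, 2], [2], [1, 2], [2],
   [1, 2], [2], [0, 1, 2], [0, 2], [0, 1, 2], [0], [1, 2], [0, 1], [0], [1, 2], [0, 1], [],
   [0, 2], [0, 1, 2], [1, 2], [0, 2], [1, 2], [2], [2], [1, 2], [0], [1, 2], [2], [0, 1], [0, 1],
   [], [], [], [0, 1, 2], [], [0, 1, 2], [0, 1, 2], [0, 1], [2], [1, 2], [0, 2], [1, 2],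
   [0, 1, 2], [2], [0, 1], [0, 1, 2], [0, 1], [2], [0, 1, 2], [0, 1, 2], [0, 1, 2], [1], [1],
   [0, 2], [0, 1], [0], [0], [0], [0, 1], [0, 1, 2], [0], [1], [2], [0, 1, 2], [1, 2], [0, 1, 2],
   [0], [0, 2], [1], [1, 2], [0], [], [2], [0, 1, 2], [0, 2], [0, 1], [2], [0], [1, 2], [0], [2],
   [1], [0], [0, 2], [0, 2], [], [1, 2], [1], [0, 1, 2], [2], [2], [0, 1], [0, 2], [0, 1, 2],
   [0, 2], [2], [1, 2], [0, 1], [2], [0, 1, 2], [0, 2], [1, 2], [1, 2], [1, 2], [2], [0, 1], [1],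
   [0, 1, 2], [], [0, 1], [1, 2], [2], [0, 2], [0, 1], [2], [0, 2], [0, 1], [0, 1, 2], [0, 2],
   [0, 1], [0, 1], [0, 2], [1], [0, 1, 2], [2], [1], [], [0], [0, 2], [], [0, 1, 2], [1, 2], [1],
   [2], [0, 2], [0, 2], [], [], [0, 1, 2], [0, 1, 2], [], [0, 1], [0, 1], [0], [2], [0, 2], [],
   [1, 2], [], [1, 2], [0, 2], [1, 2], [1, 2], [0, 1, 2], [0, 1, 2], [1, 2], [0, 1], [0, 2],
   [0, 2], [0, 1, 2], [2], [0, 2], [1], [], [2], [0], [0, 2], [0, 2], [1, 2], [1, 2], [0], [1],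
   [], [1], [1], [1, 2], [2], [0, 1, 2], [1, 2], [2], [0], [1, 2], [1], [0, 1, 2], [1], [1],
   [0, 2], [0, 2], [0, 2], [0, 1], [2], [0, 1], [1, 2], [1], [0], [1], [2], [0, 1], [0, 1, 2],
   [1], [1]],
   [[1, 2], [0], [2], [0, 1, 2], [0], [2], [0, 1, 2], [1, 2], [1], [0, 1], [0, 1], [1], [1, 2], [],
   [0, 1, 2], [2], [0], [0], [2], [1, 2], [0, 1, 2], [0, 1], [1], [2], [0, 1], [1, 2], [0, 1],
   [1, 2], [2], [0], [1, 2], [0, 1], [0, 1, 2], [1, 2], [1, 2], [0, 1, 2], [0, 1], [2], [0, 1],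
   [0, 1], [2], [0, 1], [1], [1], [2], [0, 1], [0, 1, 2], [0, 1, 2], [1, 2], [2], [2], [0], [],
   [0, 1, 2], [0, 1, 2], [], [1, 2], [0, 1], [], [1, 2], [2], [0, 1], [1, 2], [0], [0, 1],
   [1, 2], [1, 2], [0], [1, 2], [1, 2], [0], [1, 2], [], [2], [0, 2], [0, 1, 2], [0, 1], [],
   [1, 2], [0, 1, 2], [2], [2], [1], [1], [0, 1, 2], [2], [1], [], [0], [0, 1], [0, 1, 2],
   [1, 2], [2], [1], [], [2], [0], [1, 2], [2], [1], [2], [0, 2], [1], [0, 1, 2], [0, 1, 2],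
   [0, 1], [1], [], [0, 1], [2], [0], [2], [1, 2], [0], [0, 1], [0, 2], [0, 1], [0, 2], [0, 2],
   [0], [], [], [], [1], [1, 2], [0, 1, 2], [0, 1, 2], [1, 2], [1, 2], [0, 1, 2], [2], [1, 2],
   [], [0, 2], [2], [0, 2], [1], [0, 1], [0], [1], [], [], [0], [0, 1], [0], [0, 2], [0, 1], [1],
   [0, 1, 2], [0, 2], [], [], [1, 2], [1], [0, 1], [0, 1], [1, 2], [0, 1], [], [1, 2], [0, 1, 2],
   [1, 2], [0, 2], [1, 2], [1], [0], [2], [0, 1, 2], [0, 1, 2], [0, 1, 2], [0, 1, 2], [0, 1, 2],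
   [2], [1, 2], [0, 2], [0, 2], [0], [0], [1, 2], [0, 1, 2], [2], [], [1, 2], [1], [1, 2],
   [1, 2], [2], [1], [1], [2], [0, 1], [1], [1], [0, 1, 2], [], [0, 1], [2], [0, 1], [1], [2],
   [0, 1], [0, 2], [0, 2], [1], [0, 1, 2], [], [0], [2], [0, 1, 2], [0], [0], [0], [1, 2], [2],
   [], [], [0], [0, 1], [1], [0], [2], [1], [1], [0, 1], [], [0, 1, 2], [0], [], [0, 2], [0, 2],
   [], [0], [1], [1], [], [0], [], [], [0], [2], [0, 1], [0, 1, 2], [2], [0], [2], [1], [0, 2],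
   [0, 1, 2], [], [0, 1, 2], [1], [1, 2], [0, 1], [], [2], [1], [0], [1], [1, 2], [], [0, 2],
   [1], [], [1], [1], [1, 2], [2], [1], [0], [2], [], [0, 1], [2], [0, 1, 2], [], [0, 1], [], [],
   [0, 2], [1], [0, 1], [0, 1, 2], [1, 2], [0], [0, 2], [0, 1], [0, 2], [0, 1], [0, 1], [1],
   [0, 1, 2], [0, 1, 2], [0], [2], [0], [], [0], [0], [0, 2], [0, 1, 2], [0, 1], [1], [0, 2],
   [0, 2], [0], [0, 2], [1], [1], [1, 2], [0, 2], [0], [0, 2], [2], [1], [], [0, 1, 2], [1],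
   [0, 1], [], [], [0, 1, 2], [0], [0, 1], [1], [], [], [2], [], [], [1], [0], [0, 2], [0], [],
   [0, 1], [0, 1], [1], [], [2], [1], [0], [1, 2], [2], [1, 2], [2], [0], [0, 2], [], [1, 2],
   [1], [1, 2], [1], [1, 2], [1, 2], [], [0], [], [1], [1], [1], [2], [], [1], [0], [0, 2],
   [0, 1], [], [1, 2], [], [0, 1], [], [1], [1], [2], [0, 2], [2], [1], [0, 1], [2], [], [1], [],
   [], [0], [0, 1], [], [1, 2], [], [0], [0, 1], [0, 1], [], [], [], [], [1, 2], [0], [1, 2],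
   [1], [], [], [2], [0, 1], [], [0], [0], [2], [1, 2], [1, 2], [0, 1, 2], [0, 1], [0, 2],
   [0, 2], [1], [1], [0], [0], [2], [], [1, 2], [1], [0], [0, 1, 2], [1], [], [0, 1, 2], [2],
   [0, 1], [2], [2], [2], [1, 2], [0, 2], [0], [0, 1, 2], [0], [1], [2], [], [0, 1], [], [1, 2],
   [1], [0, 1, 2], [0], [1, 2], [0], [0], [0, 2], [2], [0], [], [1, 2], [2], [0, 1], [0, 1, 2],
   [1], [1, 2], [0], [], [0, 2], [], [0], [0, 2], [1], [2], [1, 2], [1, 2], [0], [2], [1, 2], [],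
   [0, 1], [1], [1], [1], [0, 1], [1], [2], [], [0, 2], [0], [], [], [1], [], [0], [2], [1], [0],
   [0, 2], [0, 2], [2], [1], [0, 1], [0, 1, 2], [0, 1], [], [2], [2], [], [], [0], [2], [], [],
   [], [1, 2], [], [0], [1, 2], [], [0, 2], [0], [], [1, 2], [], [1], [], [1], [], [], [0], [2],
   [], [1, 2], [], [0, 1, 2], [], [1], [2], [], [], [0, 1], [], [2], [], [0], [], [], [1, 2], [],
   [2], [1], [1], [0], [1], [1], [1], [], [0, 1], [], [2], [1, 2], [1], [1], [0], [0], [0, 2],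
   [2], [0], [0, 1], [], [], [], [2], [1], [0], [2], [0, 2], [], [], [1, 2], [], [0, 1], [1, 2],
   [2], [], [0, 1, 2], [], [2], [1], [0, 1], [2], [0, 1], [2], [], [], [0], [], [], [0], [0], [],
   [], [], [0], [1], [], [], [1, 2], [1], [], [], [], [], [], [2], [2], [], [1, 2], [], [1],
   [0, 2], [0, 1], [1, 2], [], [1, 2], [1, 2], [], [1, 2], [], [], [], [], [0], [0, 1], [1], [2],
   [2], [], [1], [], [0, 1], [0, 1], [0], [2], [2], [0], [], [1, 2], [], [], [0, 2], [], [],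
   [0, 2], [0], [0], [], [], [], [0], [2], [0, 1], [0], [], [0, 1], [0], [], [0, 1], [0], [],
   [0, 1], [0], [0], [], [0, 1], [2], [], [0], [0, 1, 2], [1], [1], [], [], [], [], [1], [2],
   [1, 2], [1], [1, 2], [], [1], [], [], [], [0], [1], [0], [2], [], [1], [], [], [0], [], [2],
   [], [0], [], [], [2], [], [0, 2], [], [], [0], [2], [2], [0], [], [1], [0, 2], [0], [0], [],
   [0], [], [0, 2], [], [], [0], [], [1], [0], [0], [0], [], [2], [0], [], [1, 2], [], [], [2],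
   [1], [2], [2], [], [], [0], [1], [], [], [1], [2], [], [], [], [], [], [2], [], [], [], [],
   [1], [0], [0], [], [], [1], [], [1], [], [0, 2], [], [], [], [1], [1], [0], [], [], [0], [],
   [0, 1], [0], [1], [1], [0, 1, 2], [], [], [], [], [], [2], [2], [], [1], [], [], [2], [0, 2],
   [], [1], [0], [], [], [], [], [2], [], [2], [0], [1], [0, 2], [1], [], [], [], [2], [1], [],
   [], [], [0], [], [], [0, 1, 2], [], [], [0], [0, 1], [2], [2], [], [0, 2], [2], [0], [0, 2],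
   [], [], [2], [0, 2], [2], [2], [1, 2], [1], [], [1], [0], [0, 2], [2], [], [], [1], [], [],
   [2], [1], [1, 2], [2], [0, 1], [], [], [], [1], [], [], [], [], [], [], [0], [1], [1], [1],
   [0], [0], [], [1, 2], [], [1], [0], [2], [2], [2], [], [], [2], [1], [0], [0], [0, 2], [], [],
   [], [], [], [2], [2], [], [2], [0, 2], [], [], [2], [], [1], [2], [0, 1], [1], [], [0],
   [1, 2], [], [], [], [2], [2], [2], [0], [0], [0], [2], [0], [], [1, 2], [0, 2], [], [], [],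
   [0], [], [], [0], [1, 2], [1], [], [2], [1], [2], [], [], [0], [], [], [2], [1], [0, 2], [],
   [], [1], [0], [], [0], [1, 2], [0], [], [], [1], [], [2], [0], [1], [0, 1], [], [0, 1], [],
   [1], [], [0], [1], [0], [], [], [1], [], [], [1], [0], [1], [0], [0, 1], [], [1], [], [2], [],
   [0], [1], [1], [0], [1, 2], [], [], [1, 2], [], [], [], [2], [], [1], [2], [], [], [], [0],
   [], [], [], [], [0], [], [], [], [], [], [1], [0], [], [2], [1], [0], [], [1], [2], [2], [0],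
   [1], [0], [1, 2], [], [], [], [], [], [], [0], [], [], [], [], [0], [1], [], [0], [1], [],
   [2], [0, 2], [], [], [], [], [], [], [], [], [1], [], [], [], [0, 1], [], [], [], [0], [0, 1],
   [], [2], [], [], [0], [], [], [], [], [0, 2], [0], [0], [1], [], [], [2], [], [], [], [0],
   [0, 2], [1, 2], [], [], [1], [0, 1], [], [0], [], [1], [0, 1], [2], [], [1], [0], [1], [0, 1]],
   [[], [], [], [], [], [1], [], [], [], [1], [0], [], [], [2], [], [], [1], [0], [2], [], [1], [],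
   [], [], [0, 2], [], [], [], [0, 1], [], [], [2], [], [], [], [], [], [], [], [1], [], [], [2],
   [], [1], [], [], [0], [], [1], [2], [2], [], [0], [], [], [], [], [2], [0, 1, 2], [], [], [],
   [], [], [], [], [0, 1], [], [], [], [], [2], [], [0, 1], [], [1], [], [], [0], [], [1], [],
   [2], [], [], [], [], [], [2], [], [1], [], [], [], [1], [], [], [], [], [1], [], [2], [], [],
   [], [1], [], [], [0, 2], [2], [], [], [], [], [], [2], [0, 1], [], [], [], [], [], [0, 1], [],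
   [1], [0], [], [2], [0], [], [], [], [0], [], [], [], [], [2], [2], [], [], [], [1], [2],
   [1, 2], [0], [2], [], [], [], [], [0], [], [2], [1], [2], [], [2], [], [], [0], [], [2], [1],
   [], [0, 2], [], [], [], [0, 1], [], [], [], [], [], [], [1], [1], [1, 2], [], [2], [0], [],
   [0], [2], [], [1], [], [], [], [2], [2], [], [], [], [1], [2], [1], [1], [], [], [], [], [],
   [], [], [], [], [], [], [], [], [], [], [], [2], [], [], [], [], [], [], [1], [], [2], [0],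
   [], [], [], [1], [2], [], [1], [2], [], [], [], [], [1], [], [], [1], [2], [], [], [], [],
   [1], [2], [], [1], [2], [], [], [], [0], [0], [], [], [], [2], [], [], [0], [], [], [0], [],
   [0], [], [2], [0], [], [0], [], [], [], [0], [], [], [], [], [], [], [0, 2], [], [1], [2], [],
   [], [], [], [2], [0], [], [], [], [], [], [0], [1], [0], [], [], [], [2], [2], [], [], [],
   [0], [], [1], [], [2], [1], [1], [], [], [2], [], [1], [0], [], [], [], [], [2], [0], [2],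
   [0], [], [1], [], [], [], [2], [], [0], [0], [0], [], [], [], [1, 2], [], [2], [1], [], [],
   [1], [], [1], [], [0], [], [], [], [], [], [0, 2], [], [1], [], [], [2], [], [0], [], [2],
   [0, 1], [], [2], [2], [], [], [0, 1], [1], [], [], [0], [], [], [], [2], [], [0, 1, 2], [1],
   [], [1], [], [1], [], [], [], [], [], [], [], [0], [1], [], [0, 1], [], [2], [2], [], [], [],
   [], [], [], [], [1], [2], [], [], [], [], [], [], [2], [], [2], [], [], [], [1], [], [], [],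
   [], [2], [], [], [], [], [], [], [], [], [], [], [], [1], [], [], [1], [1], [1], [], [], [],
   [], [], [], [], [], [], [0], [], [1], [], [], [], [], [], [2], [], [], [1], [], [0], [], [],
   [2], [], [2], [], [], [], [], [0], [2], [], [], [], [], [0], [0], [], [], [], [], [1], [2],
   [], [], [], [0], [], [0], [], [], [], [], [], [2], [], [], [], [], [], [], [], [], [], [], [],
   [], [2], [1], [], [], [], [], [], [], [], [], [0], [], [], [1], [], [], [], [], [1], [0], [],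
   [], [], [], [], [], [], [2], [], [2], [], [], [], [], [], [], [2], [], [], [1], [], [], [],
   [], [], [0], [], [], [], [1], [1], [], [], [], [], [], [], [], [2], [2], [], [2], [], [], [],
   [], [1], [], [], [], [], [], [], [], [], [], [], [], [], [], [], [], [], [1], [], [], [], [],
   [], [], [], [], [], [1], [], [1], [0], [1], [1], [], [], [], [], [], [], [], [], [], [], [],
   [], [], [], [], [2], [], [], [], [], [1], [], [], [], [], [], [], [], [], [], [], [], [], [],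
   [], [], [], [], [], [], [], [], [], [], [], [], [1], [], [], [2], [], [], [], [], [], [], [],
   [], [], [], [], [], [], [], [], [], [], [], [], [], [], [], [], [], [0], [], [], [], [], [],
   [], [], [], [], [], [], [], [], [], [], [], [2], [], [], [], [], [], [], [1], [], [2], [], [],
   [], [], [], [], [], [], [], [], [], [], [0], [], [], [], [], [], [0, 1, 2], [], [2], [], [],
   [], [2], [], [0], [], [], [], [], [], [], [], [], [], [], [], [], [], [], [], [], [], [], [],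
   [], [], [], [], [], [], [], [], [], [], [], [], [], [], [], [0], [], [], [], [], [], [], [],
   [], [2], [], [], [], [0], [], [], [], [], [], [0], [], [], [], [], [0, 1], [], [0], [], [],
   [], [], [], [], [], [], [], [], [], [], [], [], [], [], [1], [], [], [], [], [], [], [], [],
   [1], [], [], [], [], [], [], [], [], [2], [], [], [], [1], [], [], [], [], [], [], [], [], [],
   [], [], [], [], [], [], [], [1], [], [1], [], [], [], [], [], [], [], [], [], [], [], [], [],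
   [], [], [], [], [], [], [], [], [], [0], [], [], [], [], [], [], [], [], [2], [], [], [], [],
   [], [], [], [], [], [], [], [], [], [], [], [], [], [], [], [], [], [], [], [], [], [], [],
   [], [], [], [], [], [], [], [], [], [], [], [], [], [], [], [], [], [], [], [], [], [], [],
   [], [], [], [], [], [], [], [], [], [], [], [2], [], [], [], [], [], [], [], [], [], [], [],
   [], [], [], [], [], [], [], [], [], [], [], [], [], [], [], [], [], [], [], [], [], [], [],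
   [], [], [], [], [0], [], [], [], [], [], [], [], [], [], [], [], [], [], [], [], [], [], [],
   [], [], [], [], [], [], [], [], [], [], [], [], [], [], [], [], [], [], [], [], [], [], [],
   [], [], [], [], [], [], [], [], [], [], [], [], [], [], [], [], [], [], [], [], [], [], [],
   [], [], [], [], [], [], [], [], [], [], [], [], [], [], [], [], [], [], [], [], [], [], [],
   [], [], [], [], [], [], [], [], [1], [], [], [], []],
   [[], [], [], [], [], [], [], [], [], [], [], [], [], [], [], [], [], [], [2], [], [], [], [],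
   [], [], [], [], [], [], [], [], [], [], [], [], [], [], [], [], [], [], [], [], [], [], [],
   [], [], [], [], [], [], [], [], [], [], [], [], [], [], [], [], [], [], [], [], [], [], [1],
   [], [], [], [], [], [], [], [], [], [], [], [], [], [], [], [], [], [], [], [], [], [], [],
   [], [], [], [], [], [], [], [], [], [], [], [], [], [], [], [], [], [], [], [], [], [], [],
   [], [], [], [], [], [], [], [], [], [], [], [], [], [], [], [], [], [], [], [], [], [], [],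
   [], [], [], [], [], [], [], [], [], [], [], [], [], [], [], [], [], [], [], [], [], [], [],
   [], [], [], [], [], [], [], [], [], [], [], [], [], [], [], [], [], [], [], [], [], [], [],
   [], [], [], [], [], [], [], [], [], [], [], [], [], [], [], [], [], [], [], [], [], [], [],
   [], [], [], [], [], [], [], [], [], [], [], [], [], [], [], [], [], [], [], [], [], [], [],
   [], [], [], [], [], [], [], [], [], [], [], [], [], [], [], [], [], [], [], [], [], [], [],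
   [], [], [], []]]

/-- Representative of orbit 2 of `octTrio`. -/
def octTrioRep2 : List ℕ := [0x149f, 0xf6840, 0xf08320]

/-- The orbits of `octTrio`. -/
def octTrioData : List (List ℕ × List (List (List ℕ))) :=
  [(octTrioRep0, octTrioPlan0), (octTrioRep1, octTrioPlan1), (octTrioRep2, octTrioPlan2)]

end Cfsg.Agent.GolayOrbitLists
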