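/-
Kernel checks of the orbit plans in `OctTrioData`.

Main result: `octTrio_certified`.
-/
import Cfsg.Agent.Lib.GolayOrbitLists.Split
import Cfsg.Agent.Lib.GolayOrbitLists.OctTrioData

set_option autoImplicit false
set_option maxRecDepth 100000
open Cfsg Cfsg.Agent.Golay

namespace Cfsg.Agent.GolayOrbitLists

theorem octTrio_certified : Certified ([octad0] : List ℕ) octTrioGens octTrioData trios := by
  refine ⟨by decide +kernel, by decide +kernel, by decide +kernel, ?_, ?_⟩
  · simp only [octTrioData, List.forall_mem_cons]
    refine ⟨obj_mem_trios (by decide +kernel), obj_mem_trios (by decide +kernel), obj_mem_trios (by decide +kernel), List.forall_mem_nil _⟩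
  · rw [ncard_trios]
    decide +kernel

end Cfsg.Agent.GolayOrbitLists
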