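/-
Orbit plans for the stabiliser of a complementary pair of dodecads on sextets, produced by a search program and checked by the
kernel where used: for each layer and each of its members, the generators leading to new members.
-/
import Cfsg.Agent.EqLemmas

set_option autoImplicit false
set_option maxRecDepth 20000

namespace Cfsg.Agent.GolayOrbitLists

/-- Generators for `dodSext`. -/
def dodSextGens : List ℕ :=
  [
    0x64032128876a0af48eb7050cb746d3, 
    0x9d5568a0e9a14c07ada1732f220c50, 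
    0x941814b8871b62f320b60504a5d677]

/-- Layers of orbit 0 (size 396) of `dodSext`. -/
def dodSextPlan0 : List (List (List ℕ)) :=
  [[[0, 1, 2]],
   [[0, 1, 2], [0, 1, 2], [0, 1, 2]],
   [[0, 1, 2], [0, 1, 2], [0, 1, 2], [0, 1, 2], [0, 1, 2], [0, 1, 2], [0, 1, 2], [0, 1, 2],
   [0, 1, 2]],
   [[0, 2], [0, 1, 2], [0, 1, 2], [0, 2], [0, 1], [0, 1], [0, 1, 2], [0, 1, 2], [0, 1, 2], [0, 2],
   [0, 2], [0, 1, 2], [0, 1, 2], [1, 2], [0, 1, 2], [0, 1, 2], [0, 1, 2], [1, 2], [0, 1],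
   [0, 1, 2], [0, 1], [0, 1, 2], [0, 1, 2], [0, 1, 2], [0, 1, 2], [0, 1], [0, 2]],
   [[0, 1, 2], [0, 1, 2], [0, 1, 2], [0, 1, 2], [0, 1, 2], [0, 1], [0, 1, 2], [0, 1, 2], [0, 1, 2],
   [0, 1, 2], [0, 1, 2], [0, 2], [1], [0, 1, 2], [2], [1, 2], [], [0, 1, 2], [0], [0, 1, 2],
   [0, 1, 2], [0, 1, 2], [0, 1], [1], [0, 1], [0, 2], [0, 1], [0, 2], [0, 1], [0, 1, 2], [0, 2],
   [0, 2], [0], [2], [0, 2], [2], [1, 2], [1, 2], [0, 1, 2], [0, 1, 2], [1, 2], [], [0, 1],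
   [1, 2], [1, 2], [1, 2], [1], [0, 1, 2], [1, 2], [0, 1, 2], [0, 1, 2], [], [2], [2], [2], [],
   [1, 2], [], [1, 2], [1, 2], [0, 1, 2], [0, 1, 2], [0, 1, 2], [0, 1, 2], [0, 1], [1], [], [2],
   [1, 2]],
   [[1], [1], [1, 2], [2], [0, 2], [1, 2], [0, 1], [0, 1], [], [1], [0], [], [2], [0, 1], [0, 1],
   [0, 2], [0, 1, 2], [0, 2], [0, 2], [2], [0, 2], [2], [0, 2], [0, 1], [1], [0], [0, 2], [2],
   [1], [1, 2], [0, 2], [], [2], [2], [1], [], [0, 1], [1, 2], [0], [0, 2], [], [1], [2], [0],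
   [], [2], [0], [], [1, 2], [1, 2], [], [1], [0, 1], [0, 1, 2], [], [0, 1], [0, 1], [0, 1], [0],
   [], [2], [1, 2], [], [2], [], [0, 2], [0], [], [], [2], [1, 2], [], [], [1], [], [1], [], [],
   [0, 2], [1], [0, 2], [1], [], [], [2], [1], [0], [0], [], [], [], [0], [], [1], [0, 1], [2],
   [1, 2], [2], [], [], [2], [0, 2], [], [], [0], [0, 1], [], [], [], [], [], [1], [2], [],
   [0, 1], [2], [2], [2], [0], [], [], [0], [], [], [], [], [], [], [], [], [0], [], [], [2],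
   [1, 2], [0], [0, 1], [2]],
   [[], [], [], [], [2], [2], [], [], [0], [], [], [0, 2], [], [1], [2], [], [1, 2], [], [], [],
   [], [2], [], [], [], [], [], [], [], [], [], [0], [], [], [], [], [], [], [0], [], [], [], [],
   [0], [0], [], [], [], [], [], [], [], [], [2], [], [], [], [], [], [], [], [], [0], [], [],
   [], [], [], [], [], [], [], [], [], [], [], [], [], [], [], [2], [], [], [], [], [], [], [],
   [], [], [], [], [], [], [], [], [], [], [], [], [], [], [], [], [], [], [], [], [], [], [],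
   [], [], [], [], [], [], [], [], [], [], [], [], [], [], [], [], [], [], [], [], []]]

/-- Representative of orbit 0 of `dodSext`. -/
def dodSextRep0 : List ℕ := [0xa3, 0x4640, 0x110804, 0x261000, 0x482008, 0x808110]

/-- Layers of orbit 1 (size 495) of `dodSext`. -/
def dodSextPlan1 : List (List (List ℕ)) :=
  [[[0, 1, 2]],
   [[0, 1, 2], [0, 1, 2], [0, 1, 2]],
   [[0, 1, 2], [0, 1, 2], [0, 1, 2], [0, 1, 2], [0, 1, 2], [0, 1, 2], [0, 1, 2], [0, 1, 2],
   [0, 1, 2]],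
   [[0, 1, 2], [0, 1, 2], [0, 2], [0, 1, 2], [0, 2], [0, 1, 2], [0, 1], [0, 1, 2], [0, 1, 2],
   [1, 2], [1], [0, 1, 2], [0, 1], [0, 1, 2], [0, 1, 2], [0, 1, 2], [0, 1, 2], [0, 1, 2],
   [0, 1, 2], [0, 1, 2], [0, 2], [0, 1, 2], [0, 1], [0, 1, 2], [0, 1, 2], [0, 1, 2], [1, 2]],
   [[0, 1, 2], [0, 2], [0, 1], [2], [0, 2], [0, 1, 2], [0, 1, 2], [0, 1, 2], [0, 2], [0, 1, 2],
   [0, 1, 2], [1], [1, 2], [1], [0, 1], [0], [0, 1], [0, 2], [1, 2], [0, 1, 2], [0, 1, 2], [1],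
   [0, 1, 2], [0, 1, 2], [0], [0, 2], [0, 1, 2], [0, 2], [0, 2], [0, 2], [0], [0, 2], [0, 1, 2],
   [0, 2], [0, 2], [0, 1, 2], [0, 2], [0, 1], [0, 1, 2], [0, 1, 2], [0, 1], [1, 2], [2], [2],
   [1], [0], [0], [2], [1, 2], [2], [1], [0, 1, 2], [0, 1, 2], [2], [1, 2], [1, 2], [0, 1], [],
   [1, 2], [0, 1, 2], [0, 1, 2], [2], [0, 2], [0, 2], [0, 1], [0, 1, 2], [0, 1, 2], [0, 1, 2],
   [1, 2], [1, 2], [0, 1]],
   [[0, 1], [0], [0, 1], [0, 1, 2], [1], [1, 2], [0, 1], [2], [0], [0], [0, 2], [0], [0], [1, 2],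
   [2], [2], [0, 1, 2], [1], [], [2], [0, 1, 2], [2], [2], [0, 1, 2], [2], [1, 2], [1, 2], [2],
   [0], [1, 2], [1], [0, 2], [0, 1], [0], [2], [0], [0], [1], [0, 2], [2], [1, 2], [1], [], [1],
   [0, 2], [], [1], [0, 1, 2], [2], [1, 2], [0, 1, 2], [0, 1, 2], [], [0], [2], [0], [0, 2], [1],
   [0, 2], [0], [1, 2], [0, 2], [2], [1], [1], [], [2], [1], [0], [], [], [1, 2], [2], [],
   [1, 2], [1], [0, 1], [0, 1, 2], [0, 1], [0, 1], [1], [], [1], [0, 1], [1], [0], [2], [1], [0],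
   [], [2], [1, 2], [1, 2], [0, 1, 2], [0, 1], [0, 1, 2], [0, 1, 2], [0], [2], [0, 1], [1],
   [1, 2], [2], [0, 2], [2], [], [1], [0, 1, 2], [], [], [], [2], [], [0, 2], [1], [2], [0], [],
   [2], [], [1], [0, 2], [0], [2], [0], [], [1, 2], [2], [0, 2], [], [], [2], [], [], [0], [2],
   [], [], [], [2], [1], [0], [], [], []],
   [[2], [0, 1], [0, 1, 2], [], [0], [], [], [1], [2], [1], [2], [2], [], [0, 2], [], [], [1], [0],
   [], [1, 2], [], [1], [1], [0], [], [0, 1], [], [], [], [], [0], [], [], [2], [], [], [], [],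
   [0], [], [0, 2], [], [0], [], [0], [1], [0], [], [0], [1], [0], [], [], [1], [], [1], [], [],
   [], [], [], [], [2], [2], [], [], [], [], [1], [], [], [], [], [], [1], [], [], [], [0, 1],
   [0], [], [], [], [], [], [0], [0], [], [1], [], [], [], [2], [], [], [2], [], [1], [], [], [],
   [2], [0], [], [], [], [], [], [], [], [], [1], [], [], [], [], [], [], [], [], [1], [], [],
   [], [1], [2], [1], [], [], [], [], [2], [], [], [], [], [], [2], [], [], [], [], [], [0], [],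
   [], [], [], [], [], [0], [], [], [2], [], [], [], [], [], [], [], [], [], [], [], [], [], [],
   [], [], [], [], [], [], [], []],
   [[], [], [], [], [], [], [], [], [], [], [], [], [], [], [], [], [], [], [], [0], [], [], [],
   [], [], [], [], [], [], [], [], [], [], [], [], [], [], [], [], [], [], [], [], [], [], [],
   [], [], [], [], [], [], [], [], [], [], [], [], [], [], [], []]]

/-- Representative of orbit 1 of `dodSext`. -/
def dodSextRep1 : List ℕ := [0xf, 0x1490, 0x98100, 0x342000, 0x400a40, 0x824020]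

/-- Layers of orbit 2 (size 880) of `dodSext`. -/
def dodSextPlan2 : List (List (List ℕ)) :=
  [[[0, 1, 2]],
   [[0, 1, 2], [0, 1, 2], [0, 1, 2]],
   [[0, 1, 2], [0, 1, 2], [1, 2], [0, 1, 2], [0, 1], [0, 1, 2], [0, 1, 2], [0, 1, 2], [0, 1, 2]],
   [[0, 1, 2], [0, 1, 2], [0, 1, 2], [0, 1, 2], [0, 2], [0, 1, 2], [0, 1, 2], [0, 1, 2], [0, 2],
   [0, 1, 2], [0, 1], [0, 1, 2], [0, 1, 2], [0, 1, 2], [0, 1, 2], [0, 1, 2], [0, 1, 2],
   [0, 1, 2], [0, 1, 2], [0, 1, 2], [0, 1, 2], [0, 1, 2], [0, 1, 2], [0, 1, 2], [0, 1, 2]],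
   [[0, 1, 2], [1, 2], [0, 1], [0, 2], [0, 1, 2], [0, 1, 2], [0, 1, 2], [1], [0, 1, 2], [0, 1, 2],
   [0, 1, 2], [0, 1, 2], [2], [1], [0, 1, 2], [0, 1, 2], [0, 1, 2], [0, 1, 2], [0, 1, 2], [1],
   [0, 2], [0, 1, 2], [0, 1, 2], [0, 1, 2], [0, 2], [0, 1, 2], [0, 1], [0, 1, 2], [0, 2], [0, 1],
   [0, 1, 2], [0, 1, 2], [0, 1, 2], [1, 2], [1, 2], [0, 1, 2], [0, 1, 2], [0, 1, 2], [0, 1, 2],
   [1, 2], [0, 1, 2], [1, 2], [1], [0, 1], [0, 1, 2], [0, 1, 2], [1, 2], [1, 2], [0, 1, 2],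
   [0, 2], [0, 1], [0, 1, 2], [0, 1, 2], [0, 1, 2], [0, 1, 2], [0, 1], [0, 1, 2], [2], [1],
   [0, 1, 2], [0, 1], [1, 2], [0, 1, 2], [0, 1, 2], [0, 2], [0, 1, 2], [0, 1, 2], [0, 1, 2],
   [0, 2], [2], [0, 1], [1, 2]],
   [[1, 2], [0, 1, 2], [0, 1, 2], [0, 1], [0, 1, 2], [0, 1, 2], [0, 1, 2], [0, 2], [0, 2], [0, 2],
   [0, 1, 2], [0, 2], [0, 1, 2], [1], [0, 1], [0, 2], [0, 2], [0, 1, 2], [0, 1, 2], [0, 2],
   [0, 1, 2], [2], [1, 2], [0, 1, 2], [1, 2], [0, 2], [2], [0, 1, 2], [1, 2], [1, 2], [0, 1, 2],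
   [0, 2], [0, 1, 2], [0, 1], [1, 2], [2], [0, 2], [0, 2], [0, 2], [0, 1, 2], [1], [0, 1, 2],
   [1, 2], [0], [], [0, 1, 2], [0], [0, 1], [0, 1, 2], [2], [1], [0, 1, 2], [0, 1, 2], [0, 2],
   [0, 1, 2], [0, 1], [], [1, 2], [1, 2], [], [2], [0, 1], [0, 1, 2], [0, 1, 2], [0, 1], [0, 2],
   [0, 1, 2], [0, 2], [0, 1, 2], [1, 2], [0, 1, 2], [1, 2], [2], [1, 2], [1], [0, 1, 2], [0, 2],
   [1, 2], [0], [0], [0], [0, 2], [0, 1], [], [0], [0, 2], [0, 2], [0, 1, 2], [2], [0, 1, 2],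
   [0, 1, 2], [], [0, 1], [], [0], [0, 1, 2], [1, 2], [1], [0, 1, 2], [0, 2], [0, 1], [2],
   [0, 1, 2], [], [0, 2], [], [1, 2], [2], [0, 1, 2], [2], [1], [], [1], [1, 2], [], [2],
   [0, 1, 2], [1, 2], [0, 1], [0], [0, 1, 2], [0, 1], [1, 2], [1], [1], [0, 1], [2], [0, 2],
   [0, 2], [0], [1], [1, 2], [1], [2], [0, 2], [], [], [0], [0, 1, 2], [0, 1, 2], [2], [0, 1],
   [1], [0, 2], [0, 1, 2], [2], [0, 1, 2], [0, 1], [0, 1], [1], [1, 2], [1], [0, 1], [0, 1, 2],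
   [0], [0, 1, 2], [1, 2], [], [], [1, 2], [1, 2], [0, 2], [0], [1], [1, 2], [1], [1, 2],
   [0, 1, 2], [2], [0, 1], [1, 2], [], [0], [1], [1], [1, 2]],
   [[0, 1, 2], [0, 1, 2], [1], [1, 2], [2], [], [], [0, 1], [0], [1], [0, 2], [1], [1], [1, 2],
   [0, 1, 2], [], [1, 2], [0], [2], [2], [0], [0, 1, 2], [0, 1], [1, 2], [1], [], [1, 2], [],
   [1], [0], [0], [], [2], [0], [0, 1, 2], [0], [], [0, 2], [2], [], [2], [1], [], [1, 2], [0],
   [], [1, 2], [2], [], [0], [1], [0, 2], [1, 2], [2], [1, 2], [2], [], [], [1, 2], [], [2], [2],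
   [1], [0, 2], [0, 1], [0], [], [0, 2], [], [2], [0], [2], [2], [], [1, 2], [1, 2], [0, 1],
   [0, 1, 2], [0, 1, 2], [0], [2], [], [], [0], [2], [], [], [], [2], [1, 2], [1, 2], [], [0],
   [], [], [0, 2], [0, 2], [], [0, 1], [0], [0, 2], [0], [1, 2], [0, 2], [1], [2], [0], [], [],
   [1], [0], [2], [0], [], [0], [1], [1], [0, 2], [0], [], [], [], [1], [2], [], [], [2], [2],
   [0], [1], [], [], [0], [1, 2], [2], [0], [0, 1], [], [0], [], [], [], [], [], [0, 1], [1],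
   [1, 2], [], [], [], [2], [0], [2], [], [2], [], [2], [0, 2], [], [1], [1], [1, 2], [1], [],
   [1], [], [], [2], [], [1], [0], [0], [], [2], [], [], [], [0, 1], [], [0, 1], [1], [], [1],
   [], [], [], [2], [1], [], [], [1], [], [1], [0], [2], [0], [0], [], [], [0, 1], [0], [],
   [0, 1], [], [0, 1, 2], [2], [1], [0], [], [], [0, 1], [], [1, 2], [], [], [2], [], [], [0],
   [], [0, 1], [], [1, 2], [], [0, 2], [], [0], [], [1], [], [2], [0], [1], [], [2], [1], [],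
   [0, 1], [0], [], [], [2], [], [1, 2], [0, 1], [], [2], [], [], [], [], [], [1], [], [], [],
   [], [], [0], [0, 1], [1], [], [2], [], [], [], [], [], [], [0], [], [1], [0], [], [0, 1], [0],
   [2], [], [], [], [], [2], [1], [], [1], [], [0, 2], [], [], [], [1], [], [2], [], [1], [2],
   [], [], [], [0], [], [2], [2], [], [], [], [], [], [], [], [0], [], [1], [], [], [], [], [1]],
   [[], [], [], [], [1], [], [0], [], [], [], [1], [0, 1], [], [1], [], [], [1], [], [], [], [],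
   [2], [], [1], [], [], [2], [], [], [], [1], [1], [], [], [], [], [], [], [], [], [], [], [1],
   [], [], [0], [], [], [], [], [], [], [], [], [], [], [], [], [], [], [], [], [], [], [], [],
   [], [], [], [], [], [], [], [1], [], [], [], [0], [], [], [], [], [], [], [], [], [], [], [],
   [], [], [], [], [1], [], [], [], [], [], [2], [], [], [], [], [], [], [], [], [], [], [], [],
   [], [], [], [], [], [], [], [], [], [], [], [], [0], [], [], [2], [], [], [], [], [], [], [],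
   [], [], [], [], [], [], [], [], [], [], [], [], [], [], [], [], [], [], [], [], [], [], [1],
   [], [], [], [], [], [], [], [], [], [], [], [], [], [], [], [], [], [], [], [], [], [], [],
   [2], [], [], [], [], [], [], [], [], [], [], [], [], [], [], [], [], [], [], [2], [0], [], [],
   [], [], [], [], [], [], [], [], [], [], [], [], [], [], [], [], [], [], [], [], [], [], [],
   [], [], [], [], [], [], [], [], [], [], [], [], [], [], [], [], [], [], [], [], [], [], [],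
   [], []]]

/-- Representative of orbit 2 of `dodSext`. -/
def dodSextRep2 : List ℕ := [0x27, 0xb040, 0xc0210, 0x110880, 0x600500, 0x824008]

/-- The orbits of `dodSext`. -/
def dodSextData : List (List ℕ × List (List (List ℕ))) :=
  [(dodSextRep0, dodSextPlan0), (dodSextRep1, dodSextPlan1), (dodSextRep2, dodSextPlan2)]

end Cfsg.Agent.GolayOrbitLists
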