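/-
Three orbits on octads, read off from a certified splitting of `octadFams`.

Main result: `three_orbits_octads`.
-/
import Cfsg.Agent.Lib.GolayOrbitLists.Split

set_option autoImplicit false
open scoped Pointwise
open Cfsg MulAction Cfsg.Agent.Golay

namespace Cfsg.Agent.GolayOrbitLists

theorem three_orbits_octads {A0 gens : List ℕ} {e₁ e₂ e₃ : List ℕ × List (List (List ℕ))}
    (hC : Certified A0 gens [e₁, e₂, e₃] octadFams) {A : Obj} (hA : ∃ t : ↥M24, t • obj A0 = A)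
    {n₁ n₂ n₃ : ℕ} (h₁ : (orbitList gens e₁).length = n₁) (h₂ : (orbitList gens e₂).length = n₂)
    (h₃ : (orbitList gens e₃).length = n₃) :
    ∃ X₁ ∈ octads, ∃ X₂ ∈ octads, ∃ X₃ ∈ octads, (orbit (stabilizer M24 A) X₁).ncard = n₁ ∧
      (orbit (stabilizer M24 A) X₂).ncard = n₂ ∧ (orbit (stabilizer M24 A) X₃).ncard = n₃ ∧
      octads = orbit (stabilizer M24 A) X₁ ∪ orbit (stabilizer M24 A) X₂ ∪
        orbit (stabilizer M24 A) X₃ := by
  obtain ⟨_, ⟨x₁, hx₁, rfl⟩, _, ⟨x₂, hx₂, rfl⟩, _, ⟨x₃, hx₃, rfl⟩, c₁, c₂, c₃, hU⟩ :=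
    three_orbits hC smul_mem_octadFams hA h₁ h₂ h₃
  simp only [image_orbit_singleton,
    Set.ncard_image_of_injective _ Finset.singleton_injective] at c₁ c₂ c₃
  refine ⟨x₁, hx₁, x₂, hx₂, x₃, hx₃, c₁, c₂, c₃, ?_⟩
  refine Finset.singleton_injective.image_injective ?_
  simp only [Set.image_union, ← image_orbit_singleton]
  exact hU

end Cfsg.Agent.GolayOrbitLists
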