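/-
Orbit plans for the stabiliser of a sextet on octads, produced by a search program and checked by the
kernel where used: for each layer and each of its members, the generators leading to new members.
-/
import Cfsg.Agent.EqLemmas

set_option autoImplicit false
set_option maxRecDepth 20000

namespace Cfsg.Agent.GolayOrbitLists

/-- Generators for `sextOct`. -/
def sextOctGens : List ℕ :=
  [
    0xe07b32859a628954cb6914e7dc41, 
    0x2d982928c4bd6147840942ced9c46e, 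
    0x2a1af25ceb5558205121b427230dd1]

/-- Layers of orbit 0 (size 15) of `sextOct`. -/
def sextOctPlan0 : List (List (List ℕ)) :=
  [[[0, 1, 2]],
   [[0, 1], [0, 1, 2], [0, 2]],
   [[0], [1, 2], [], [], [0], [], []]]

/-- Representative of orbit 0 of `sextOct`. -/
def sextOctRep0 : List ℕ := [0x65928]

/-- Layers of orbit 1 (size 360) of `sextOct`. -/
def sextOctPlan1 : List (List (List ℕ)) :=
  [[[0, 1, 2]],
   [[0, 1, 2], [0, 1, 2], [0, 1, 2]],
   [[0, 1, 2], [0, 1, 2], [0, 1], [0, 1, 2], [0, 1, 2], [0, 1, 2], [0, 1, 2], [0, 1, 2], [0, 1, 2]],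
   [[1, 2], [0, 1, 2], [0, 1, 2], [0, 1, 2], [0, 1, 2], [0, 1, 2], [0, 1, 2], [0, 1, 2], [0, 1, 2],
   [0, 1, 2], [0, 1, 2], [2], [0], [1, 2], [0, 1, 2], [0, 1, 2], [1, 2], [0, 1, 2], [0, 2],
   [0, 1, 2], [0, 1], [0, 1, 2], [0, 1, 2], [0, 1], [0, 1, 2], [2]],
   [[0, 1, 2], [0, 1, 2], [0, 1, 2], [0, 1], [0, 1], [0, 1, 2], [0, 1, 2], [0, 1, 2], [0, 1],
   [0, 1, 2], [0, 1, 2], [0, 1], [0, 1, 2], [0, 1, 2], [2], [1, 2], [0, 1], [0, 1, 2], [0, 1],
   [1, 2], [0, 1], [1, 2], [1], [], [0, 1], [2], [], [], [0, 1, 2], [2], [0, 2], [1, 2], [0, 2],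
   [0, 1], [0, 1, 2], [0, 1, 2], [0, 2], [0, 1, 2], [0, 1], [1, 2], [0, 2], [0], [1], [0],
   [1, 2], [2], [0, 2], [0, 2], [0, 1, 2], [1], [2], [0, 1, 2], [1, 2], [2], [1], [1, 2], [0, 2],
   [], [], [0, 1, 2], [0, 2], [1], [0, 2], [0, 1, 2], [0], [0, 1]],
   [[0, 1, 2], [0, 1], [1], [1], [0, 2], [0, 1], [2], [0, 1, 2], [0, 1], [2], [1, 2], [0, 1],
   [1, 2], [1, 2], [0, 1, 2], [1], [], [1, 2], [0, 2], [2], [0, 2], [1, 2], [], [0], [1, 2], [],
   [0, 2], [1, 2], [], [1], [], [], [], [], [], [0], [0, 2], [2], [0], [0, 1, 2], [0, 1, 2],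
   [1, 2], [0, 2], [1], [0], [1, 2], [0], [], [], [], [1], [2], [1, 2], [0, 2], [0], [2], [], [],
   [1], [0], [], [], [], [2], [2], [0], [1], [0, 2], [], [1], [2], [], [], [1], [2], [], [2], [],
   [], [], [0], [], [], [], [0], [2], [0], [], [1], [0, 2], [], [2], [1], [], [2], [0, 1, 2],
   [2], [], [], [], [], [], [0, 1], [], [], [], [2], [], [1], [], [1], [], [], [], [], [], [],
   [0], [0], [], [], [], [], [0, 2], [], [], []],
   [[0, 1], [], [], [1], [1], [1], [], [1], [1], [], [0], [], [], [], [2], [], [0], [], [], [], [],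
   [], [], [], [], [], [], [1], [1], [2], [], [], [], [], [], [], [], [], [], [], [], [], [2],
   [], [], [], [], [], [], [], [], [], [], [], [], [], [], [], [], [], [], [], [], [], [2], [],
   [], [], [0], [], [], [], [], [], [], [], [], [1], [], [], [], [], [], [], [], [], [], [], [],
   [], [], [], [], [], [], [], [], [], [], [], [], [], [], [], [], [], [], [], [], [], []]]

/-- Representative of orbit 1 of `sextOct`. -/
def sextOctRep1 : List ℕ := [0x293e]

/-- Layers of orbit 2 (size 384) of `sextOct`. -/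
def sextOctPlan2 : List (List (List ℕ)) :=
  [[[0, 1, 2]],
   [[0, 1, 2], [0, 1, 2], [0, 1, 2]],
   [[0, 1, 2], [0, 1, 2], [0, 1, 2], [0, 1, 2], [0, 1, 2], [0, 1, 2], [0, 1, 2], [0, 1, 2],
   [0, 1, 2]],
   [[1, 2], [0, 1, 2], [0, 2], [0, 1, 2], [0, 1, 2], [0, 1, 2], [0, 1, 2], [0, 1, 2], [0, 1, 2],
   [0, 1], [0, 1, 2], [0, 1, 2], [0, 1], [0, 2], [2], [1, 2], [1, 2], [1], [0, 1], [0, 1, 2],
   [0, 2], [0, 1, 2], [1, 2], [0], [0, 1], [0, 1, 2], [0, 1, 2]],
   [[0, 1, 2], [0, 1], [0, 1, 2], [1, 2], [1], [0, 1, 2], [0], [1, 2], [0, 1, 2], [0, 1, 2],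
   [0, 1], [0, 2], [0, 2], [0, 2], [0, 1], [0, 2], [0, 1], [0, 1], [0, 1, 2], [0, 2], [0, 1],
   [0, 1, 2], [1, 2], [1, 2], [1, 2], [1, 2], [0, 1], [0, 1], [0, 1, 2], [0, 1, 2], [1, 2],
   [0, 2], [0, 2], [0, 1, 2], [0, 2], [0, 1], [0, 1, 2], [], [0], [0, 1], [0, 2], [0, 1, 2], [0],
   [1, 2], [1, 2], [2], [0, 1, 2], [0, 2], [0, 2], [2], [0, 1], [0, 1], [1, 2], [0, 1], [2], [2],
   [1], [0, 1], [2], [0, 2], [0], [], [1], [2]],
   [[0], [0, 1], [1, 2], [2], [1, 2], [1], [0, 2], [0, 1], [2], [1, 2], [0, 2], [1, 2], [0], [1],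
   [0], [], [0, 2], [1], [], [0, 2], [0], [0, 2], [2], [0, 2], [0, 2], [2], [], [2], [0], [],
   [1], [1], [0, 2], [2], [0, 1, 2], [2], [0, 1, 2], [2], [1], [1], [2], [1], [1], [0, 1],
   [0, 1, 2], [0, 1], [1], [0], [2], [1, 2], [], [], [0, 2], [], [2], [1], [2], [1], [1, 2], [0],
   [], [], [0, 2], [], [], [2], [], [1, 2], [1], [1, 2], [0], [], [1], [2], [0, 2], [], [0], [],
   [], [1, 2], [0, 2], [0, 1], [], [], [], [], [0, 2], [0], [1, 2], [], [], [], [1], [2], [], [],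
   [], [1], [], [], [2], [1], [0], [0, 1], [2], [], [1, 2], [0, 1, 2], [0, 1], [1], [2], [0], [],
   [1], [2], [], [1], [1], [1], [1], [], [], [], []],
   [[], [2], [2], [], [2], [], [], [], [], [1], [2], [1], [], [], [0], [], [], [2], [0], [], [],
   [], [0], [], [2], [2], [], [0], [2], [1], [], [], [], [], [1, 2], [2], [2], [], [], [], [0],
   [], [], [], [], [1, 2], [], [0], [], [], [], [], [], [], [], [], [], [], [], [], [], [], [],
   [], [], [], [], [], [], [], [2], [], [], [], [0], [], [], [], [], [], [], [], [0], [], [], [],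
   [], [], [], [], [], [2], [], [], [], [], [], [], [], [2], [], [], [], [], [], [], [], [], [],
   [], [], [], [], [], [], [], [], [], [], [], [], [], [], [], [], [], [], []]]

/-- Representative of orbit 2 of `sextOct`. -/
def sextOctRep2 : List ℕ := [0x149f]

/-- The orbits of `sextOct`. -/
def sextOctData : List (List ℕ × List (List (List ℕ))) :=
  [(sextOctRep0, sextOctPlan0), (sextOctRep1, sextOctPlan1), (sextOctRep2, sextOctPlan2)]

end Cfsg.Agent.GolayOrbitLists
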