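/-
Orbit plans for the stabiliser of a sextet on trios, produced by a search program and checked by the
kernel where used: for each layer and each of its members, the generators leading to new members.
-/
import Cfsg.Agent.EqLemmas

set_option autoImplicit false
set_option maxRecDepth 20000

namespace Cfsg.Agent.GolayOrbitLists

/-- Generators for `sextTrio`. -/
def sextTrioGens : List ℕ :=
  [
    0x80a6e351778a00f4946aa9d81936c4, 
    0x13e07248b49c52861aab6d9ca1dc01, 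
    0x115554c9b1359cb44ceca3e03206e0]

/-- Layers of orbit 0 (size 15) of `sextTrio`. -/
def sextTrioPlan0 : List (List (List ℕ)) :=
  [[[0, 1, 2]],
   [[0, 1, 2], [0, 1, 2], [0, 1]],
   [[], [0], [], [0], [], [], [], []],
   [[0], []]]

/-- Representative of orbit 0 of `sextTrio`. -/
def sextTrioRep0 : List ℕ := [0x65928, 0x3886c0, 0xc12017]

/-- Layers of orbit 1 (size 180) of `sextTrio`. -/
def sextTrioPlan1 : List (List (List ℕ)) :=
  [[[0, 1, 2]],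
   [[0, 1, 2], [0, 2], [0, 1, 2]],
   [[0, 1, 2], [0, 1, 2], [0, 2], [0, 1, 2], [0, 2], [0, 1, 2], [0, 1, 2], [0, 1]],
   [[0, 1, 2], [0, 1, 2], [0, 1, 2], [0, 1, 2], [1], [0, 1], [1, 2], [0, 1, 2], [0, 1, 2], [2],
   [1, 2], [0, 1], [0], [0, 1, 2], [0], [1], [1, 2], [0, 1], [0, 1], [0, 1, 2], [0, 2]],
   [[0, 1, 2], [0, 2], [1], [], [0, 1], [0, 1, 2], [0, 1, 2], [1], [1], [0], [2], [0, 1],
   [0, 1, 2], [1, 2], [0, 1], [2], [0, 1], [1, 2], [], [0, 2], [0, 1], [0], [2], [2], [0, 2],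
   [2], [0, 2], [0, 2], [1, 2], [0, 2], [], [0], [2], [2], [], [2], [0, 1, 2], [2], [0, 2], [1],
   [0, 2], [2], [], [2], [0]],
   [[1], [2], [0, 2], [2], [0], [1], [0, 2], [1], [], [], [0, 2], [], [0, 1], [0, 1], [], [], [1],
   [], [0], [], [2], [0], [0], [], [1], [], [0], [0], [0], [], [0], [], [0], [1], [2], [1], [],
   [], [0], [0], [1], [], [], [2], [], [], [], [], [], [], [0], [], [], [], [], [], [], [], [],
   [], [], [], [], [], [], []],
   [[1], [], [], [], [], [], [], [], [], [], [], [], [], [], [], [], [], [], [], [], [], [], [],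
   [], [], [], [], [], [], [], [], [], [], [], []]]

/-- Representative of orbit 1 of `sextTrio`. -/
def sextTrioRep1 : List ℕ := [0x293e, 0x3886c0, 0xc75001]

/-- Layers of orbit 2 (size 720) of `sextTrio`. -/
def sextTrioPlan2 : List (List (List ℕ)) :=
  [[[0, 1, 2]],
   [[0, 1, 2], [0, 1, 2], [0, 1, 2]],
   [[0, 1, 2], [0, 1, 2], [0, 1, 2], [0, 1, 2], [0, 1, 2], [0, 1, 2], [0, 1, 2], [0, 1, 2],
   [0, 1, 2]],
   [[0, 1, 2], [0, 1, 2], [0, 1, 2], [0, 1, 2], [0, 1], [0, 2], [1, 2], [0, 1, 2], [0, 1, 2],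
   [0, 1, 2], [0, 1, 2], [0, 1, 2], [0, 1, 2], [0, 1, 2], [0, 2], [0, 1, 2], [0, 1, 2],
   [0, 1, 2], [0, 1, 2], [0, 1], [0, 1, 2], [0, 1, 2], [0, 1, 2], [0, 1, 2], [0, 1, 2], [0, 2],
   [0, 1, 2]],
   [[0, 2], [0, 1, 2], [0, 1], [0, 1], [0, 1, 2], [1, 2], [1, 2], [0, 1, 2], [0, 1, 2], [0, 2],
   [0, 1, 2], [0, 1, 2], [0, 1, 2], [0, 1], [0, 1, 2], [0, 2], [0, 1, 2], [0, 1, 2], [0, 1, 2],
   [0, 1], [0, 1], [0, 1], [0, 2], [0, 2], [0, 1, 2], [0, 1, 2], [0, 1, 2], [0, 2], [0, 1, 2],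
   [0, 1, 2], [0, 1, 2], [0, 1, 2], [1], [0, 1, 2], [0, 1], [0, 1], [0, 2], [0, 1, 2], [1],
   [0, 1, 2], [0, 2], [0, 1, 2], [0, 1, 2], [0, 1, 2], [0, 1, 2], [0, 1], [0, 2], [0, 1, 2], [2],
   [0, 1, 2], [0, 1], [1], [1, 2], [1, 2], [1, 2], [0, 1], [1, 2], [0, 2], [1, 2], [0, 2],
   [0, 1, 2], [0, 2], [1, 2], [0, 1, 2], [0, 2], [0, 1], [0, 1], [0, 2], [0, 1, 2], [1, 2],
   [0, 1], [1, 2], [0, 1, 2], [0, 2], [0]],
   [[1, 2], [0, 1, 2], [1, 2], [1], [0, 1, 2], [1], [0, 1, 2], [0, 1, 2], [0, 1], [0, 1, 2],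
   [0, 1, 2], [0, 1, 2], [1, 2], [1, 2], [0, 2], [0, 1], [0, 2], [1], [0, 1, 2], [0, 2], [0, 2],
   [0, 1, 2], [0], [1, 2], [0, 2], [0, 2], [1, 2], [0, 1], [0, 1, 2], [0], [2], [0, 2],
   [0, 1, 2], [0, 2], [0, 1, 2], [1], [1, 2], [0, 1, 2], [0, 2], [2], [2], [1, 2], [0, 2],
   [0, 1, 2], [1, 2], [0], [0], [0, 2], [0, 1, 2], [0], [1], [0, 2], [1], [], [1, 2], [2],
   [0, 2], [0, 2], [0, 1], [0, 1], [1, 2], [0, 1], [1, 2], [0, 1, 2], [0, 2], [0, 2], [0],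
   [0, 1, 2], [0, 1], [2], [0, 1], [1], [2], [], [0, 1], [1, 2], [0, 1], [0, 1], [1], [0, 1, 2],
   [0], [0, 1, 2], [0, 2], [2], [], [0, 1], [], [1, 2], [0], [0], [], [1, 2], [0, 1, 2], [2],
   [1], [0, 1, 2], [], [0, 1], [0, 1, 2], [1, 2], [2], [1, 2], [0, 1], [2], [0, 1], [0, 1], [0],
   [0, 2], [2], [0, 1, 2], [1], [1], [1], [0, 1, 2], [0], [1], [2], [1, 2], [2], [0, 1], [1, 2],
   [0], [0, 2], [], [0, 1, 2], [1, 2], [0, 1], [1], [0], [0, 1], [0], [0], [1], [0], [0], [],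
   [0, 2], [], [1], [1], [0], [0], [1], [0], [], [1], [0], [2], [], [2], [1, 2], [1, 2],
   [0, 1, 2], [], [2], [0, 1], [], [0, 2], [], [1, 2], [2], [0, 1], [0], [0], [], [0], [1], [2],
   [0], [0], [0, 2], [1, 2], [], [], [], [1]],
   [[1], [0, 1], [1], [1, 2], [], [1], [0], [], [], [1], [0], [0], [1, 2], [], [0], [], [2], [],
   [1, 2], [1], [2], [], [], [], [0], [2], [0], [0, 2], [0, 1], [], [1], [0], [], [0, 2], [0, 2],
   [2], [2], [], [2], [], [0, 2], [1], [], [], [2], [], [0], [1], [], [0], [2], [], [2], [1], [],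
   [], [], [2], [2], [], [0], [0, 2], [0], [0, 1], [1, 2], [0], [1], [2], [1, 2], [], [0], [0],
   [], [0, 1, 2], [], [0], [], [1], [1], [], [0], [0], [1], [0, 1], [], [], [1], [0], [1], [],
   [0], [], [2], [0, 2], [], [], [2], [0], [0, 2], [], [2], [], [], [0], [], [0, 1], [], [], [],
   [1], [1], [2], [1], [], [1], [], [0, 1], [], [1], [], [], [], [], [], [], [], [], [], [2],
   [2], [], [], [0, 2], [], [2], [], [1], [2], [], [0], [1], [0], [], [1, 2], [], [], [], [2],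
   [2], [2], [0, 1], [2], [], [], [], [], [], [], [2], [], [], [], [], [1], [], [], [0], [0], [],
   [], [], [0, 2], [], [1], [], [], [], [], [], [], [], [0], [], [0], [], [0, 2], [], [0], [],
   [0], [], [2], [], [], [0], [], [], [], [], [], [1], [], [], [], [], [0], [], [], [], [], [],
   [2], [], [], [], [], [], [], [], [0], [], [], [2], [1], [], [], [0], [], [], [], [], [], [],
   [], [], [1], [], [], [], [], [1], [], [2], [], [], [], [], [], [0], [], [], [], [], [], [],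
   [1], [], [], [2], [], [], [1], [], [], [], [], [], [1], [], [1], [], [], [], [], [], [], []],
   [[], [], [0, 1], [], [], [], [], [], [2], [], [1], [], [], [], [], [], [], [0], [], [], [], [],
   [], [], [], [], [], [], [], [], [], [], [], [], [], [], [], [], [], [], [], [], [], [], [],
   [], [], [], [], [], [], [], [], [], [], [], [], [], [], [], [], [], [], [], [], [1], [], [],
   [], [], [], [], [0], [], [], [], [], [], [], [], [], [], [], [], [], [], [], [], [], [], [],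
   [], [], [], [], [], [], [], [], [], [], [], [], [], [], [], [], [], [], [], [], [], [], [],
   [], [], [], [], [], [], [], [], [], [], [], [], [], [], [], [], [], [], [], [], [], [], [],
   [], [], [], [], [], [], [], []]]

/-- Representative of orbit 2 of `sextTrio`. -/
def sextTrioRep2 : List ℕ := [0x293e, 0x1ed080, 0xe10641]

/-- Layers of orbit 3 (size 2880) of `sextTrio`. -/
def sextTrioPlan3 : List (List (List ℕ)) :=
  [[[0, 1, 2]],
   [[0, 1, 2], [0, 1, 2], [0, 1, 2]],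
   [[0, 1, 2], [0, 1, 2], [0, 1, 2], [0, 1, 2], [0, 1, 2], [0, 1, 2], [0, 1, 2], [0, 1, 2],
   [0, 1, 2]],
   [[0, 1, 2], [0, 1, 2], [0, 1, 2], [0, 1, 2], [0, 1, 2], [0, 1, 2], [0, 1, 2], [0, 1, 2],
   [0, 1, 2], [0, 1, 2], [0, 1, 2], [0, 1, 2], [0, 1, 2], [0, 1, 2], [0, 1, 2], [0, 1, 2],
   [0, 1, 2], [0, 1, 2], [0, 1, 2], [0, 1, 2], [0, 1, 2], [0, 1, 2], [0, 2], [0, 1, 2],
   [0, 1, 2], [0, 2], [1, 2]],
   [[0, 1, 2], [0, 1, 2], [0, 1, 2], [0, 1, 2], [0, 1, 2], [0, 1, 2], [0, 1, 2], [0, 1], [0, 1],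
   [0, 1, 2], [0, 1, 2], [0, 1, 2], [0, 1], [0, 1, 2], [0, 1, 2], [0, 1, 2], [1, 2], [0, 1, 2],
   [0, 1, 2], [0, 1, 2], [0, 1, 2], [0, 1, 2], [0, 1, 2], [0, 1, 2], [0, 1, 2], [0, 2],
   [0, 1, 2], [0, 1, 2], [0, 1, 2], [0, 1, 2], [0, 1, 2], [0, 1, 2], [0, 1, 2], [0, 1, 2],
   [0, 1, 2], [0, 1, 2], [0, 1, 2], [1, 2], [0, 2], [1, 2], [0, 1, 2], [0, 1, 2], [0, 1, 2],
   [0, 1, 2], [0, 1, 2], [0, 1, 2], [0, 1, 2], [0, 1, 2], [0, 1, 2], [0, 1, 2], [0, 1, 2],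
   [0, 2], [0, 2], [0, 1, 2], [0, 1, 2], [0, 1, 2], [0, 1, 2], [0, 1, 2], [0, 1, 2], [0, 1, 2],
   [0, 1, 2], [2], [0, 1, 2], [0], [0, 1, 2], [0, 1, 2], [0, 1, 2], [0, 1, 2], [1, 2], [0],
   [0, 1], [0, 1, 2], [0, 1, 2], [0, 1, 2], [1, 2], [0, 2], [0, 2], []],
   [[0, 1], [0, 1, 2], [0, 1, 2], [0, 1, 2], [0, 1, 2], [0, 1, 2], [0, 1, 2], [0, 1, 2], [0, 1],
   [0, 1, 2], [0, 1, 2], [0, 1, 2], [0, 1, 2], [0, 1, 2], [0, 1, 2], [0, 1, 2], [2], [0, 1, 2],
   [0, 1, 2], [0, 1, 2], [0, 1, 2], [0, 1, 2], [1], [0, 1, 2], [0, 2], [0, 1, 2], [0, 1, 2],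
   [1, 2], [0, 1, 2], [0, 1], [1, 2], [0, 1, 2], [0, 1, 2], [0, 1, 2], [0, 1, 2], [0, 1, 2],
   [0, 1, 2], [0, 1], [0, 1, 2], [0, 2], [0, 1, 2], [0, 1, 2], [0, 1, 2], [0, 1, 2], [0, 1, 2],
   [0, 1, 2], [0, 1, 2], [0, 1, 2], [0], [0, 1, 2], [0, 2], [0, 1, 2], [0, 1, 2], [0, 1, 2],
   [0, 1, 2], [0, 2], [0, 1, 2], [0, 2], [0, 1, 2], [0, 1, 2], [0, 2], [0, 2], [0, 2], [0, 1],
   [0, 1, 2], [0, 1, 2], [0, 1], [0, 2], [0, 2], [0, 2], [0, 1, 2], [0, 1, 2], [0, 1, 2], [1, 2],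
   [0, 2], [0, 1], [0, 1, 2], [0, 1], [0, 1, 2], [0, 2], [0, 2], [0, 1, 2], [1, 2], [0, 1], [1],
   [0, 1, 2], [0, 1], [1, 2], [0, 1, 2], [0], [0, 1, 2], [0, 1, 2], [0, 1, 2], [0, 1, 2],
   [0, 1, 2], [0, 1, 2], [0, 1, 2], [0, 1, 2], [0, 1, 2], [0, 1, 2], [0, 1, 2], [2], [0, 1],
   [0, 1, 2], [0, 1, 2], [2], [0, 1], [0, 1, 2], [0, 1, 2], [0, 1, 2], [0, 1, 2], [0, 1, 2],
   [0, 1, 2], [0], [0, 1, 2], [0, 2], [0, 1, 2], [0, 2], [0, 1, 2], [0, 1, 2], [0, 1, 2],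
   [0, 1, 2], [0, 1, 2], [1, 2], [0, 1, 2], [0, 2], [0, 1], [0, 1, 2], [0, 2], [0], [0, 1, 2],
   [0, 1, 2], [0, 1, 2], [0, 1, 2], [0, 1, 2], [0, 1, 2], [1, 2], [1, 2], [0, 1, 2], [0, 1, 2],
   [0, 1, 2], [0, 2], [0, 1, 2], [0, 1], [0, 1], [0, 1], [0, 1, 2], [0, 1], [0, 1, 2], [0, 1, 2],
   [0, 2], [0, 1], [0, 2], [1, 2], [0, 1], [0, 1], [0], [0, 1], [0, 1, 2], [0, 1, 2], [0, 1, 2],
   [0, 1, 2], [0, 1, 2], [0], [0, 1, 2], [0, 1, 2], [0, 1, 2], [0], [0, 1, 2], [1, 2], [2],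
   [0, 1, 2], [0, 1, 2], [0, 1], [0, 1, 2], [2], [0, 1, 2], [1, 2], [0, 1, 2], [1, 2], [0, 1, 2],
   [0, 1, 2], [0, 1, 2], [0, 1, 2], [0, 1, 2], [0], [2], [0], [1], [0, 2], [0, 1, 2], [0, 1, 2],
   [1, 2], [0, 1, 2], [0], [0, 1], [0, 1, 2], [0, 1, 2], [0, 1, 2], [0, 1, 2], [1, 2], [], [0],
   [0, 1, 2], [0, 1, 2], [0, 1, 2], [1], [0, 2], [0, 1, 2], [0, 1]],
   [[0, 1, 2], [0, 2], [0, 1, 2], [1, 2], [0, 1, 2], [0, 1, 2], [0, 1, 2], [0, 2], [0, 1, 2],
   [0, 1, 2], [0, 1, 2], [0, 1, 2], [0, 1, 2], [0, 1, 2], [0, 1, 2], [1], [0, 1, 2], [1, 2],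
   [0, 1, 2], [1, 2], [2], [0, 1, 2], [0, 1, 2], [0], [0, 2], [0, 2], [0, 2], [0, 1, 2],
   [0, 1, 2], [0, 2], [0, 1, 2], [0, 1], [2], [0, 1, 2], [0, 1], [1, 2], [0, 1, 2], [0], [0, 2],
   [0, 2], [0, 1, 2], [0, 2], [0, 2], [0, 2], [1, 2], [0], [0, 2], [0, 1, 2], [2], [0, 2],
   [0, 1], [1, 2], [0, 1, 2], [0, 1, 2], [0, 1, 2], [0, 1], [0, 1, 2], [1, 2], [0, 1, 2],
   [0, 1, 2], [1], [0, 1], [0, 1], [0, 2], [0, 1], [], [1, 2], [0], [0, 1], [0, 1], [1, 2],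
   [0, 1, 2], [0, 1], [1, 2], [0, 1, 2], [0], [1, 2], [0, 1, 2], [0, 2], [0, 1, 2], [0, 1, 2],
   [0, 1, 2], [0, 1, 2], [0, 1, 2], [0], [0, 1, 2], [0, 1, 2], [0, 1], [0, 1, 2], [0, 1, 2], [2],
   [0, 1, 2], [0, 1, 2], [0, 1, 2], [0, 1, 2], [1, 2], [0, 2], [0, 1, 2], [0, 1, 2], [2], [2],
   [1, 2], [0], [0, 1, 2], [0, 1, 2], [0, 1], [2], [1, 2], [0, 1, 2], [0, 1], [1, 2], [0, 1, 2],
   [2], [0, 1, 2], [0, 1, 2], [1, 2], [0, 2], [0, 1, 2], [0, 1, 2], [1, 2], [0, 1, 2], [2],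
   [0, 1, 2], [1], [0, 1, 2], [0, 2], [2], [], [0, 1, 2], [0, 1, 2], [1, 2], [0, 2], [2],
   [0, 1, 2], [0, 2], [0], [0, 1, 2], [2], [0, 2], [0, 2], [0, 2], [0, 1, 2], [0, 1, 2], [1, 2],
   [0, 1], [0, 1], [0, 1], [1, 2], [0], [0, 1, 2], [1, 2], [0, 1], [0, 1, 2], [0, 1], [0, 1, 2],
   [1, 2], [0, 2], [0], [0], [0, 1, 2], [0, 1], [0], [0, 1, 2], [1, 2], [0, 1], [2], [2],
   [0, 1, 2], [1, 2], [0, 1], [1, 2], [0, 1, 2], [0, 1, 2], [0, 1, 2], [0, 1, 2], [0, 1, 2],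
   [0, 2], [0, 1], [1, 2], [0, 1, 2], [0, 1, 2], [0, 1], [0, 1, 2], [0, 1, 2], [0, 1, 2], [1, 2],
   [0], [0, 2], [0, 1], [0, 2], [0, 2], [0, 2], [0, 1], [0, 1, 2], [0], [0, 1], [0, 2], [1, 2],
   [0], [0], [0, 1, 2], [1, 2], [0, 1, 2], [0, 1, 2], [], [0, 2], [0, 2], [0, 2], [0, 2], [0, 2],
   [0, 2], [0, 2], [1, 2], [1], [0, 1, 2], [0, 1, 2], [1, 2], [0, 1, 2], [1, 2], [0, 2], [0, 1],
   [2], [0, 1, 2], [1, 2], [0, 1], [1], [0, 1, 2], [0, 1, 2], [0, 1], [0, 1, 2], [1], [0, 1],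
   [0, 2], [0, 1], [], [1], [0, 2], [0], [1], [0, 2], [0, 2], [0], [1, 2], [0, 2], [2], [0, 1],
   [0, 1, 2], [0, 1, 2], [2], [0, 1, 2], [0, 1, 2], [0, 1], [0], [0, 2], [0, 1, 2], [], [0, 1],
   [0, 1, 2], [0, 1, 2], [0], [0, 1, 2], [0], [1, 2], [0, 2], [0, 1], [0], [0, 2], [1, 2], [2],
   [0, 1], [0, 1], [0, 1, 2], [0, 1, 2], [0, 2], [0, 1, 2], [0, 1, 2], [0, 2], [0, 1, 2], [],
   [0, 1], [0], [0, 2], [0, 2], [0], [2], [0, 2], [0, 1, 2], [], [1], [0, 1], [1, 2], [0, 2],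
   [0, 1], [1, 2], [0, 1, 2], [0, 2], [0, 1, 2], [0, 1], [], [1], [1], [0, 2], [0, 2], [1, 2],
   [], [], [0, 1], [1, 2], [0, 1], [0, 1, 2], [0, 1, 2], [0, 2], [0, 1], [0, 2], [0, 1, 2], [2],
   [2], [0, 1], [0], [2], [0, 1], [0, 1, 2], [0, 2], [0, 2], [0], [0, 1], [0], [0, 2], [0, 2],
   [0, 1, 2], [1], [0, 2], [0, 1, 2], [], [1, 2], [1, 2], [0, 1], [0, 2], [1, 2], [0, 1, 2],
   [1, 2], [0, 2], [0], [0], [2], [0], [1, 2], [0, 1, 2], [1], [0, 2], [0, 1], [0, 2], [2], [2],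
   [], [1, 2], [0], [0, 1, 2], [0, 1], [0, 1, 2], [1], [0, 1, 2], [2], [2], [0, 1, 2], [0, 2],
   [1, 2], [1], [1, 2], [0, 1], [0], [0, 1], [0, 1], [0, 1], [0], [0], [1], [0, 1, 2], [0, 2],
   [0], [0, 1], [], [0, 2], [0], [], [1, 2], [0, 1], [1, 2], [2], [1, 2], [0, 1, 2], [0, 2], [2],
   [0, 2], [0, 2], [0], [0, 1, 2], [0, 1, 2], [], [0, 2], [0, 1, 2], [0, 2], [0], [2], [0, 1, 2],
   [0, 1], [0], [1, 2], [1], [2], [2], [0, 1, 2], [0, 1], [0, 1, 2], [0], [2], [0], [0, 1],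
   [0, 1, 2], [1, 2], [0, 1, 2], [1, 2], [1, 2], [0, 1], [0, 1], [1], [0, 2], [2], [0, 1],
   [0, 1], [0, 1, 2], [2], [0, 2], [2], [0, 2], [1, 2], [1], [1, 2], [1, 2], [0, 2], [2], [0, 1],
   [0], [2], [0], [0, 1, 2], [0], [0, 2], [], [0], [0, 2], [0], [2], [0], [0, 1, 2], [1], [1, 2],
   [0, 1, 2], [0, 1, 2], [], [0], [0], [], [1, 2], [1], [0, 1], [0, 1], [2], [], [1], [2], [0],
   [0, 2], [], [2], [], [], [], [1], [2], [1, 2], [2], [1, 2], [0], [0, 1], [1, 2], [1, 2],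
   [0, 2], [0, 1, 2], [], [0, 1], [0, 2], [1, 2], [0, 1], [0, 1, 2], [0, 2], [1, 2], [],
   [0, 1, 2], [1, 2], [1, 2], [0, 1, 2], [], [2], [0, 1, 2], [1], [1], [0, 1], [0], [1], [2],
   [0, 1], [0], [0, 2], [0], [0, 1, 2], [0, 1], [1, 2], [1, 2], [0, 2], [1, 2], [0, 1], [0, 2],
   [0]],
   [[1, 2], [0, 1], [1, 2], [2], [1, 2], [1, 2], [2], [0, 1, 2], [1], [0], [0], [0, 2], [0, 2],
   [0, 1, 2], [1, 2], [1], [2], [0, 2], [0, 1], [1], [], [1, 2], [0, 1, 2], [0, 2], [0, 1, 2],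
   [2], [0, 1, 2], [0, 1, 2], [2], [1], [0, 2], [0, 1, 2], [0], [2], [2], [0, 1], [1, 2], [0],
   [2], [1, 2], [0, 1], [1], [0, 1], [1], [], [0, 1], [0, 1], [1, 2], [], [1, 2], [], [1, 2],
   [0, 2], [0, 2], [0], [0], [1], [], [], [1, 2], [0, 2], [0, 1], [0], [], [0, 1], [2], [],
   [0, 1, 2], [1], [1], [0, 1, 2], [], [0, 1], [2], [0, 2], [1], [2], [0, 1, 2], [1], [1, 2],
   [0], [0, 1, 2], [], [0, 1, 2], [2], [], [1, 2], [0, 2], [0], [0], [0, 1], [0, 1], [1], [1],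
   [0], [0], [1, 2], [0], [0], [2], [0, 1], [], [0], [1], [1], [0], [1], [2], [0, 1, 2],
   [0, 1, 2], [0], [0, 2], [0, 1], [0, 2], [1], [], [0], [0], [2], [1, 2], [0, 2], [], [0, 1],
   [], [0, 1], [1], [0, 1], [0], [1, 2], [0], [], [2], [2], [], [0, 1, 2], [1], [], [0, 2], [0],
   [1], [0, 1], [0, 1], [0, 2], [0, 2], [1], [1, 2], [0], [], [], [1, 2], [2], [], [0, 1, 2],
   [2], [0, 2], [0, 1, 2], [1], [0, 1], [1, 2], [0, 1, 2], [0, 1, 2], [], [1, 2], [1], [],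
   [0, 1], [2], [0, 1], [], [2], [0], [0], [0, 2], [1], [1, 2], [], [2], [0, 2], [0], [0, 1],
   [0, 2], [], [0, 2], [2], [0, 2], [0, 1], [0, 1, 2], [1, 2], [], [0, 2], [], [0, 1, 2], [1, 2],
   [2], [0, 1], [0, 1, 2], [2], [], [0, 1, 2], [], [2], [0, 1], [], [1], [2], [1], [2], [], [0],
   [0, 2], [], [1], [], [0], [], [2], [1], [0], [2], [0, 2], [1, 2], [], [], [0, 1, 2], [0, 1],
   [2], [0, 1], [1], [0, 2], [1, 2], [1], [0], [0], [1], [], [1], [1, 2], [0, 1], [2], [0, 1],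
   [2], [0, 2], [1], [2], [0], [1, 2], [2], [0], [0], [1], [], [0, 1, 2], [], [1, 2], [2], [1],
   [], [2], [1], [], [], [], [], [0], [0, 1], [0], [0], [], [1], [0, 1], [0], [], [], [], [2],
   [1], [0, 1, 2], [0, 2], [1], [1], [], [2], [], [1], [0], [0, 2], [0], [0], [1, 2], [1, 2],
   [1], [0], [], [], [1, 2], [], [0], [0, 1, 2], [0, 1, 2], [0], [0], [0], [], [], [], [0], [0],
   [0], [0, 1], [1], [0, 2], [1], [], [], [], [0], [], [], [1], [0], [0], [], [], [], [1, 2],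
   [1], [], [0, 2], [], [1], [0, 1], [1], [], [0, 1, 2], [0, 1, 2], [], [], [2], [0, 1, 2], [2],
   [0, 2], [0, 1], [], [0, 2], [2], [1], [], [], [], [1], [0, 2], [2], [0], [1], [], [], [], [1],
   [], [], [1, 2], [1], [1], [1, 2], [], [], [], [], [0, 2], [1], [], [], [1], [], [2], [], [0],
   [0], [], [], [1, 2], [1, 2], [0], [], [0, 1], [0, 1], [], [1], [2], [0, 1], [], [1], [1, 2],
   [], [0, 1], [], [0, 1], [2], [0, 1, 2], [], [0, 1], [0], [1], [0], [], [0, 1], [0, 2], [0, 1],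
   [2], [0], [1], [0, 1], [0, 1], [0, 2], [2], [0, 2], [], [], [0, 1], [0, 1, 2], [1], [], [],
   [0, 2], [], [1], [], [0, 1], [1], [1], [0, 1, 2], [1], [2], [], [0], [1], [0], [], [2],
   [0, 1], [1], [0, 1], [], [2], [0, 1], [0], [0], [2], [1], [], [0], [2], [0], [], [], [],
   [0, 1, 2], [], [], [], [2], [], [0], [0], [1], [], [1, 2], [2], [], [1], [], [1, 2], [], [],
   [], [1], [0], [], [0, 1, 2], [1, 2], [2], [], [], [], [0], [0], [0], [0], [0], [2], [2], [],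
   [], [], [1], [2], [0], [2], [2], [0, 2], [], [1], [2], [0, 1, 2], [], [2], [], [0], [0, 2],
   [], [0, 1, 2], [1], [], [1], [], [0], [0, 1], [], [], [2], [0], [], [1, 2], [1], [], [0, 1],
   [], [], [0], [2], [0, 1], [1], [0], [0], [1], [2], [], [], [1], [], [1, 2], [], [2], [0, 1],
   [1], [1], [2], [], [], [0], [2], [2], [1, 2], [], [], [1], [0, 2], [], [0, 1], [], [0],
   [1, 2], [0], [0, 2], [], [], [0], [], [2], [0], [0, 1, 2], [0, 2], [], [1, 2], [], [1, 2],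
   [2], [0], [], [2], [0, 2], [], [0], [], [], [1], [], [], [], [], [], [], [], [1, 2], [1], [2],
   [0], [], [], [0], [1], [1, 2], [0, 1], [], [0, 1], [], [2], [1], [1], [], [], [0, 2], [1, 2],
   [1], [], [], [1], [], [], [], [], [0], [], [2], [0, 1], [0], [], [], [1, 2], [], [0], [], [0],
   [1], [], [2], [], [], [], [2], [], [], [], [0], [1], [], [0], [0, 2], [], [1], [0], [2], [1],
   [1], [0], [2], [0, 1], [], [], [1], [0, 2], [], [0, 1], [1], [], [], [], [0], [0, 2], [2], [],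
   [0], [1], [], [], [], [], [1], [2], [], [0, 2], [], [2], [], [], [], [0], [1], [0], [1, 2],
   [], [], [0, 2], [0], [], [0], [], [1], [1, 2], [1], [0], [], [0, 1], [], [1, 2], [0], [], [],
   [], [2], [0], [0], [], [], [], [2], [], [1], [2], [], [2], [1, 2], [0, 2], [], [1], [],
   [0, 2], [], [], [], [2], [], [], [0], [2], [2], [], [], [], [], [1], [1], [], [], [], [], [0],
   [], [], [], [], [], [1, 2], [], [0], [], [0], [], [], [2], [2], [0], [], [0], [], [], [], [],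
   [1, 2], [], [], [], [], [], [2], [], [], [2], [], [], [], [], [], [0], [], [], [0, 1], [0],
   [], [2], [], [2], [], [2], [], [], [], [0], [0], [0], [], [], [], [0], [], [1], [1, 2], [0],
   [2], [], [0], [], [], [], [0, 1], [], [], [], [1, 2], [], [1], [], [2], [], [], [], [], [],
   [], [], [0], [0], [], [0], [], [2], [2], [], [2], [], [], [0], [], [2], [2], [], [2], [0, 2],
   [], [0, 2], [1], [0], [2], [], [], [2], [0, 1], [], [1], [], [1, 2], [], [1], [], [], [], [1],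
   [0], [], [], [], [], [], [2], [], [], [], [0], [2], [1], [0], [], [], [], [], [0], [0], [0],
   [], [], [], [], [], [1], [], [], [2], [], [], [1], [0], [], [1, 2], [0], [], [], [1], [1],
   [2], [], [2], [], [], [2], [], [], [2], [], [], [0], [0], [0, 1], [], [], [], [0, 1], [],
   [0, 2], [], [], [0], [], [1], [2], [], [1], [], [1], [], [2], [], [], [], [], [], [], [], [],
   [], [1], [], [], [0], [], [0], [], [2], [1], [], [], [], [], [0, 1], [], [], [], [], [], [0],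
   [], [], [1], [], [], [0], [], [], [], [], [], [1], [], [], [], [], [], [], [2], [], [], [1],
   [0], [2], [], [0, 2], [], [2], [], [], [], [2], [], [2], [2], [0], [], [], [], []],
   [[1], [1], [0], [0, 2], [1], [], [], [], [], [], [], [], [], [], [1], [1], [], [0], [], [], [2],
   [], [], [0], [2], [], [2], [], [], [], [1], [], [], [], [], [], [], [2], [], [], [], [], [],
   [0, 1], [], [0], [0], [1, 2], [2], [0], [], [], [], [], [0], [], [2], [], [1], [], [], [],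
   [2], [], [1], [0], [], [], [], [0, 1], [2], [], [], [0], [], [], [2], [], [], [], [], [], [0],
   [], [], [], [1], [1], [2], [], [], [], [], [1], [], [], [], [1], [], [], [], [], [0, 1, 2],
   [2], [], [], [], [0], [1, 2], [], [0], [], [0, 1, 2], [], [2], [1], [1], [2], [2], [], [],
   [2], [], [], [], [], [], [], [2], [], [], [], [1], [2], [], [], [], [], [], [], [], [], [],
   [], [], [], [], [0, 2], [], [], [1], [], [1], [], [1], [], [], [], [], [0, 1], [], [1], [],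
   [], [], [], [], [], [], [], [], [2], [], [], [], [], [], [], [0], [], [], [0], [], [], [], [],
   [], [], [2], [], [], [], [], [0], [], [], [1], [0], [2], [], [], [], [], [], [], [], [], [],
   [], [], [0], [], [], [], [], [], [2], [], [], [], [], [], [], [], [], [0], [], [], [], [0],
   [], [], [], [0], [1], [], [], [0], [], [], [], [], [], [], [], [], [2], [2], [], [], [], [1],
   [], [], [], [], [1], [0], [2], [], [1], [], [], [], [], [], [], [1], [1], [], [], [], [], [],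
   [1], [], [], [], [], [], [], [0, 1], [], [], [], [2], [2], [], [], [], [2], [], [0], [], [1],
   [], [], [], [], [], [], [], [], [], [], [], [], [], [], [], [], [], [], [], [], [], [], [],
   [], [], [], [], [], [1], [0, 1], [2], [], [], [], [0], [2], [], [0], [], [], [2], [], [], [],
   [], [], [], [], [], [], [], [], [], [0], [], [0], [], [], [], [], [], [], [], [], [], [1],
   [0], [], [], [], [], [], [], [], [], [], [], [], [], [], [], [], [], [2], [], [1], [], [], [],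
   [], [], [], [], [], [0], [], [], [], [], [], [], [], [], [], [], [], [], [], [], [], [], [],
   [], [], [], [], [], [], [], [], [], [], [], [], [], [], [0], [], [], [], [], [], [], [], [],
   [], [], [], [], [], [], [], [], [], [], [], [], [], [], [], [], [], [], [], [], [0, 1], [],
   [], [], [], [], [], [], [], [], [], [], [], [], [1], [], [], [0], [], [0], [], [], [], [], [],
   [], [], [], [], [2], [], [], [], [], [], [], [], [], [], [], [], [], [0], [], [], [0, 2], [],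
   [], [], [], [], [], [], [], [], [], [], [], [], [], [], [], [], [], [], [], [], [], [], [],
   [], [], [], [], [], [], [], [], [], [], [], [], [], [], [], [], [], [], [], [], [], [1], [],
   [], [], [0], [], [], [], [], [], [], [], [], [], [], [], [], [], [], [], [], [], [], [], [],
   [0], [], [], [], [], [], [], [], [], [], [], [], [], [], [], [0], [], [], [], [], [], [], [],
   [], [], [], [2], [], [2], [], [], [], [], [], [], [], [2], [], [], [], [], [], [], [], [], [],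
   [], [], [], [], [], [], [], [], [], [], [], [], [], [], [], [], [], [], [], [], [], [], [],
   [], [], [], [], [], [], [], [], [], [], [], [], [], [], [], [], [], [], [], [], [], [], [],
   [0], [], [], [], [], [], [], [], [], [], [], [], [], [2], [], [], [], [], [], [], [], [], [],
   [], [], [], [], [], [], [], [], [], [], [], [], [], [], [], [], [], [1], [], [], [], [], [],
   [1], [], [], [], [], [0], [], [], [], [], [], [], [], [], [], [], [], [], [], [], [], [], [],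
   [], [], [], [], [], [], [], [], [], [], [], [], [], [], [], [], [], [], [], [], [], [], [],
   [], [1], [], [], [], [], [], [], [], [], [], [], [], [], [], [], [], [], [1], [], [], [], [],
   [], [], [], [], [], [], [], [2], [], [], [], [], [], [0], [], [1], [], [], [], [], [], [], [],
   [], [], [], [], [], [], [], [], [], [], [], [], [], [], [], [], [], [], [], [], [], [], [],
   [], [], [], [], [], [], [], [], [], [], [], [], [], [], [], [], [], [], [], [], [], [], [],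
   [], [], [], [], [], [], [], [], [], [], [], [], [], [], [], [], [], [], [], [], [], [], [],
   [], [], [], [], [], [], [], [], [], [], [], []]]

/-- Representative of orbit 3 of `sextTrio`. -/
def sextTrioRep3 : List ℕ := [0x149f, 0xf6840, 0xf08320]

/-- The orbits of `sextTrio`. -/
def sextTrioData : List (List ℕ × List (List (List ℕ))) :=
  [(sextTrioRep0, sextTrioPlan0), (sextTrioRep1, sextTrioPlan1), (sextTrioRep2, sextTrioPlan2), (sextTrioRep3, sextTrioPlan3)]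

end Cfsg.Agent.GolayOrbitLists
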