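/-
Orbit plans for the stabiliser of three points on sextets, produced by a search program and checked by the
kernel where used: for each layer and each of its members, the generators leading to new members.
-/
import Cfsg.Agent.EqLemmas

set_option autoImplicit false
set_option maxRecDepth 20000

namespace Cfsg.Agent.GolayOrbitLists

/-- Generators for `triSext`. -/
def triSextGens : List ℕ :=
  [
    0x404989d4fb556d64d1428e4623ae1, 
    0xb9a9023aa89314511d319adedb0c20, 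
    0x46072ad32ab9b42184362acf44ee1]

/-- Layers of orbit 0 (size 21) of `triSext`. -/
def triSextPlan0 : List (List (List ℕ)) :=
  [[[0, 1, 2]],
   [[0, 1, 2], [0, 1, 2], [0, 1]],
   [[1], [0, 2], [2], [0, 1, 2], [], [2], [], []],
   [[], [], [], [], [], [], [0], []]]

/-- Representative of orbit 0 of `triSext`. -/
def triSextRep0 : List ℕ := [0x1b0, 0x14840, 0xe2000, 0x100604, 0x601008, 0x808003]

/-- Layers of orbit 1 (size 630) of `triSext`. -/
def triSextPlan1 : List (List (List ℕ)) :=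
  [[[0, 1, 2]],
   [[0, 1, 2], [0, 1, 2], [0, 1, 2]],
   [[1, 2], [0, 1, 2], [0, 1, 2], [0, 1, 2], [0, 1, 2], [0, 1, 2], [0, 1, 2], [0, 1, 2], [0, 1, 2]],
   [[0, 1, 2], [0, 1, 2], [0, 1, 2], [0, 1, 2], [0, 1, 2], [0, 1, 2], [1, 2], [0, 1, 2], [1, 2],
   [2], [0, 1, 2], [0, 1, 2], [0, 1, 2], [0, 1, 2], [0, 1, 2], [1, 2], [0, 1, 2], [2], [0, 1, 2],
   [0, 2], [0, 1, 2], [0, 1, 2], [1, 2], [0, 1, 2], [0, 1, 2], [0, 1, 2]],
   [[1, 2], [0, 1, 2], [0, 1, 2], [0, 1, 2], [0, 1], [0, 1, 2], [1, 2], [0, 2], [0, 1, 2],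
   [0, 1, 2], [0, 1, 2], [0, 1, 2], [0, 1, 2], [0, 1, 2], [0, 1], [1], [0, 1, 2], [0, 1],
   [0, 1, 2], [0, 1, 2], [0, 1, 2], [0, 1, 2], [0], [0, 2], [0, 1, 2], [1, 2], [0, 2], [0, 1, 2],
   [1], [1, 2], [0, 1, 2], [1, 2], [0, 1], [0, 2], [0, 1], [1, 2], [0, 1, 2], [0, 1, 2], [1, 2],
   [0, 1, 2], [0, 1, 2], [0], [0, 1, 2], [0, 1, 2], [0, 2], [0, 1, 2], [0, 1], [0, 1, 2],
   [0, 1, 2], [1, 2], [0, 1, 2], [0, 2], [1], [0, 1, 2], [1, 2], [0, 1, 2], [0, 1, 2], [0, 1, 2],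
   [1], [0, 1, 2], [1, 2], [0, 1, 2], [0, 1, 2], [0, 1, 2], [1, 2], [0, 1, 2], [1, 2], [0, 2],
   [0, 1]],
   [[0, 1, 2], [2], [2], [0], [0, 1], [0], [0, 1, 2], [0, 1, 2], [2], [2], [1], [2], [1, 2],
   [0, 1, 2], [], [0, 1, 2], [0, 1, 2], [1, 2], [2], [], [0, 1], [1, 2], [0, 1, 2], [1], [0, 1],
   [0, 2], [2], [0, 2], [0, 1, 2], [0], [0], [0, 2], [1, 2], [0, 1], [0, 1, 2], [0, 2], [0, 1],
   [0, 2], [1, 2], [0], [0], [0, 1, 2], [], [0, 1, 2], [0], [0, 1, 2], [0, 1, 2], [0, 1],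
   [0, 1, 2], [0], [0], [0, 1], [], [0, 1], [0, 2], [0, 2], [0, 2], [0, 2], [0, 2], [1, 2], [0],
   [1], [1, 2], [0, 1, 2], [], [0], [1, 2], [0, 2], [1, 2], [0, 1], [0, 1], [0], [1, 2], [1],
   [1, 2], [0, 2], [1, 2], [2], [0, 2], [2], [0, 1], [1, 2], [0, 1, 2], [1, 2], [], [1, 2],
   [0, 2], [0], [0, 2], [1], [], [2], [0, 2], [0, 1], [], [1], [0, 1, 2], [1], [0, 1, 2], [2],
   [1, 2], [2], [0, 1, 2], [0], [0, 1], [2], [], [2], [0, 1], [0, 1, 2], [0, 2], [2], [], [],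
   [0], [], [], [0, 2], [1], [0, 2], [], [1, 2], [], [1], [1], [0], [], [1, 2], [1], [0], [0, 1],
   [1], [], [0, 1], [], [2], [2], [], [], [1], [0, 2], [2], [1, 2], [0, 1, 2], [0, 2], [0, 2],
   [0], [0, 2], [], [0], [], [0], [0], [], [0, 2], [2], [1], [], [0], [0, 1, 2], [], [0], [0, 2],
   [], [], [0, 1, 2], [1, 2], [1, 2], []],
   [[0, 2], [], [1], [0], [0], [], [0], [0, 1], [1, 2], [], [], [1], [], [], [2], [0, 1], [0], [0],
   [], [1], [1, 2], [], [0, 1], [0], [0], [], [], [0], [1], [2], [], [0], [], [], [1], [0, 1],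
   [], [0, 2], [], [], [0], [2], [], [], [0], [2], [1], [1], [1], [1], [2], [], [2], [], [1],
   [1], [1], [], [2], [1], [], [2], [], [], [0], [], [2], [0], [], [0, 1], [0], [0, 2], [1], [],
   [], [], [], [0, 2], [], [], [2], [0, 2], [], [0], [], [], [2], [], [], [0], [], [], [2],
   [0, 2], [1], [2], [], [2], [2], [], [], [1], [], [], [], [2], [], [], [], [1], [], [2], [],
   [], [], [], [0, 2], [], [], [], [], [0], [], [2], [], [], [], [2], [0], [1], [0, 1], [], [],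
   [], [], [], [], [], [], [1], [1, 2], [], [], [2], [], [1], [], [], [2], [], [], [], [], [],
   [0], [], [], [], [0], [1], [], [2], [], [], [], [1], [], [], [], [], [], [], [1], [], [], [],
   [0], [0], [], [], [], [], [], [], [], [], [], [], [], [], [], [], [], [], [], [], [], [], [],
   [], [], [], [], [], [], [0], [], [], [2], [], [], [], [], [], [], [], [], [], [], [], [], [],
   [], [], [], [], [], [], [], [], [], [], [], [], [], [], [], [], [0], [], [], [], [], [], [],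
   [], [], [], [0]],
   [[], [], [], [], [], [], [], [], [], [], [], [], [], [], [], [], [], [], [], [], [], [], [], [],
   [], [], [], [], [], [], [2], [], [], [], [], [], [], [], [], [], [], [], [], [], [], [], [],
   [], [], [], [], [], [], [], [], [], [], [], [], [], [], [], [], [], [], [], [], [], [], [],
   [], [], [], [], [], [], [], [], [], [], [], [], [], [], [], [], [], [], [], [], [], [], [],
   [], [], [], [], [], [], [], [], [], []]]

/-- Representative of orbit 1 of `triSext`. -/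
def triSextRep1 : List ℕ := [0xf, 0x1490, 0x98100, 0x342000, 0x400a40, 0x824020]

/-- Layers of orbit 2 (size 1120) of `triSext`. -/
def triSextPlan2 : List (List (List ℕ)) :=
  [[[0, 1, 2]],
   [[0, 1, 2], [0, 1, 2], [0, 1, 2]],
   [[1, 2], [0, 1, 2], [0, 1, 2], [0, 1, 2], [0, 1, 2], [0, 1, 2], [0, 1], [0, 1, 2], [0, 1, 2]],
   [[0, 1, 2], [0, 1, 2], [0, 1, 2], [0, 1], [0, 1, 2], [0, 1, 2], [0, 1, 2], [0, 2], [1, 2],
   [0, 1, 2], [0, 1, 2], [0, 1, 2], [0, 1, 2], [0, 1, 2], [0, 1, 2], [0, 1, 2], [0, 1, 2],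
   [1, 2], [0, 1, 2], [0, 1, 2], [0, 1, 2], [0, 1, 2], [0, 1, 2], [0, 1, 2], [0, 1, 2]],
   [[0, 1, 2], [0, 1, 2], [0, 1, 2], [0, 1, 2], [0, 1, 2], [0, 1, 2], [1, 2], [0, 1], [0, 1, 2],
   [1, 2], [1, 2], [0, 1, 2], [0, 1, 2], [0], [1, 2], [0, 1, 2], [0, 1, 2], [0, 1, 2], [0, 1, 2],
   [0, 1, 2], [0, 1, 2], [0, 1, 2], [0, 1, 2], [0, 1], [0, 1, 2], [0, 1, 2], [0, 1, 2],
   [0, 1, 2], [0, 1, 2], [0, 1, 2], [1, 2], [0, 1, 2], [0, 1, 2], [0, 1, 2], [0, 2], [0, 1, 2],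
   [0, 1, 2], [0, 1], [0, 1, 2], [1, 2], [0, 1, 2], [0, 1, 2], [0, 2], [0, 1, 2], [0, 1, 2],
   [0, 1, 2], [0, 1, 2], [0, 1, 2], [0, 1, 2], [0, 1, 2], [0, 2], [0, 1, 2], [0, 1, 2], [1, 2],
   [0, 1], [2], [0, 1, 2], [1, 2], [1, 2], [0, 1, 2], [1], [0, 2], [1], [0, 1, 2], [0, 1, 2],
   [0, 1, 2], [0, 2], [1], [0, 1, 2], [0, 1], [0, 1]],
   [[1, 2], [0, 1], [0, 1], [0, 1, 2], [0, 1, 2], [0, 2], [0, 2], [0, 1, 2], [0, 1, 2], [1, 2],
   [0], [0, 1, 2], [1, 2], [0, 1, 2], [0, 1, 2], [0, 1, 2], [0, 1, 2], [0, 1, 2], [0, 2],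
   [0, 1, 2], [0, 2], [0, 1, 2], [0, 1, 2], [1], [0, 2], [0, 1, 2], [0, 1], [0], [0, 1, 2],
   [1, 2], [0, 1, 2], [0, 1, 2], [0, 2], [0, 1], [0, 1], [0, 1, 2], [0, 1, 2], [1, 2], [0, 1, 2],
   [0, 1], [0, 1, 2], [0, 1], [0, 1, 2], [0, 1, 2], [1, 2], [0, 1, 2], [0, 2], [0, 1, 2], [0, 2],
   [0, 1], [0, 1, 2], [0], [0, 1], [2], [0, 1, 2], [0, 2], [0, 1, 2], [0, 1], [0, 1], [1, 2],
   [1, 2], [1, 2], [0, 1, 2], [0, 2], [], [1, 2], [1, 2], [0, 1, 2], [0, 1, 2], [0, 1], [0, 1],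
   [0, 1, 2], [0, 2], [1, 2], [1, 2], [0, 1, 2], [0, 2], [1, 2], [0, 1, 2], [2], [0, 1, 2],
   [0, 1, 2], [0], [0, 1, 2], [1], [1, 2], [0, 1, 2], [2], [1, 2], [1], [1, 2], [0, 2], [0, 2],
   [0, 2], [0, 1, 2], [0, 1, 2], [], [1, 2], [], [0, 2], [1, 2], [2], [1, 2], [1], [0, 1, 2],
   [0], [1, 2], [2], [0], [0, 2], [0, 1, 2], [], [0, 1], [1, 2], [1, 2], [2], [2], [0, 1, 2],
   [2], [1], [], [0, 1, 2], [1, 2], [0, 1, 2], [1, 2], [0, 1, 2], [1], [0, 2], [], [0, 1],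
   [0, 1], [0, 1, 2], [1, 2], [0, 1, 2], [0, 1, 2], [2], [0, 1], [1], [2], [1, 2], [0, 1, 2],
   [0, 1, 2], [0, 1, 2], [2], [1], [], [0, 1, 2], [0, 1, 2], [0, 2], [1], [], [0, 1, 2], [1, 2],
   [0, 2], [2], [0, 1], [1, 2], [1], [0, 2], [1, 2], [0, 1, 2], [0, 1], [0, 1, 2], [2], [1], [1],
   [0, 2], [2], [0, 1, 2], [0, 2], [2], [0, 1, 2], [0], [0, 1, 2], [0, 1, 2], [1], [1, 2],
   [0, 1, 2], [1, 2], [0, 1, 2], [1], [1], [0]],
   [[0, 1], [1, 2], [2], [1, 2], [0, 1], [0, 1, 2], [1, 2], [0, 2], [], [0, 1, 2], [], [1], [0, 1],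
   [], [], [0], [], [0, 1, 2], [], [0, 1, 2], [0, 1], [0, 1], [1, 2], [1], [1, 2], [0, 2],
   [0, 1, 2], [], [], [0, 1, 2], [1, 2], [], [0, 1, 2], [1, 2], [0, 1], [0, 2], [], [2], [0, 1],
   [2], [1], [2], [0, 2], [0, 1], [1], [2], [], [1], [], [2], [2], [], [], [0, 1, 2], [1, 2], [],
   [1], [0, 1], [0], [0], [], [0, 1], [0, 1, 2], [0], [0, 2], [], [0, 2], [], [], [2], [],
   [1, 2], [0, 2], [0, 2], [2], [1], [], [], [], [2], [0, 1, 2], [1], [0, 1], [1], [1], [], [1],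
   [0, 2], [0, 1], [1, 2], [0, 1, 2], [0], [1], [], [1], [1], [], [0, 1], [], [0, 2], [], [1],
   [], [1], [2], [], [0, 1, 2], [0, 1], [], [2], [0, 2], [0], [0, 2], [2], [], [], [1], [1, 2],
   [0, 1, 2], [0, 2], [0, 1], [1], [], [0, 1], [], [0, 2], [], [0, 1], [2], [1, 2], [0, 1], [0],
   [], [1, 2], [1], [2], [0, 1, 2], [0, 1, 2], [], [], [2], [0, 1, 2], [2], [], [], [2], [1, 2],
   [1], [0], [0], [], [0, 2], [], [2], [0, 1], [0], [], [2], [1, 2], [1], [2], [1], [], [0], [],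
   [], [], [0, 2], [1, 2], [0, 2], [0, 1, 2], [2], [], [0], [0, 2], [0], [0], [0, 1, 2], [2], [],
   [0, 2], [0, 2], [0, 2], [0, 1], [1, 2], [1, 2], [], [], [0], [0, 2], [], [0], [2], [1], [],
   [2], [], [0, 2], [0], [1], [], [2], [1, 2], [0, 1], [], [], [1], [], [1], [], [1], [2], [],
   [], [0], [], [0, 2], [2], [0], [1, 2], [0, 1], [], [0, 2], [1, 2], [0, 1, 2], [0, 1], [2], [],
   [2], [], [], [2], [1], [], [2], [], [], [1, 2], [], [2], [1], [0, 2], [], [2], [0, 1], [1, 2],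
   [], [0, 1], [], [], [], [], [2], [0], [], [0], [0], [1], [2], [], [1], [], [], [0, 1, 2], [2],
   [1], [2], [1], [0], [0, 2], [1], [1, 2], [0], [1], [], [0, 2], [], [1], [], [], [2], [], [1],
   [], [2], [], [0], [0], [], [], [0, 1, 2], [0, 2], [2], [2], [], [0], [], [1], [0, 1], [2], [],
   [], [1], [0], [], [], [0], [2], [], [], [], [], [], [0], [], [2], [0], [1], [2], [2], [], [],
   [], [0], [], [0], [], [0], [2], [1, 2], [], [], [], [1], [2], [], [2], [], [], [1], [0], [],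
   [], [], [0, 2], [], [0], [], [0, 1], [], [], [1], [2], [2], [], [1], [0], [], [], [2], [1],
   [], [], [], [], [], [], [], [], [], [], [1], [], [], []],
   [[2], [0], [2], [], [], [0, 2], [], [], [], [], [2], [0], [1], [0], [], [], [], [0], [], [], [],
   [], [], [0], [1], [], [], [1, 2], [], [2], [1], [], [], [], [2], [1], [2], [], [], [], [], [],
   [], [], [], [], [], [1], [], [], [], [], [0], [2], [1], [], [], [], [], [], [2], [2], [], [2],
   [], [], [0, 2], [], [2], [], [], [1], [1], [], [1], [], [0], [], [], [], [0], [], [], [], [2],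
   [], [], [0], [], [], [1, 2], [2], [], [0], [], [], [], [1, 2], [0], [2], [0], [], [1], [], [],
   [2], [], [2], [], [1], [], [], [], [], [0, 1], [], [], [0], [], [2], [], [], [1], [], [], [],
   [1], [], [], [], [], [], [], [], [], [], [], [1], [], [], [], [0, 2], [], [], [], [], [], [2],
   [1, 2], [], [], [], [], [], [], [], [2], [], [], [], [], [1], [1], [], [], [], [], [], [],
   [2], [], [], [], [], [], [], [1], [], [], [], [1], [], [1], [], [], [], [1], [], [], [], [1],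
   [], [], [], [], [1], [], [2], [], [0, 2], [], [], [], [], [1], [], [], [0], [1], [], [], [],
   [], [], [], [0], [1], [], [], [], [], [], [], [], [], [], [], [], [], [], [], [], [], [], [],
   [], [], [], [], [], [], [], [], [], [], [], [1], [], [], [], [], [], [], [], [0], [], [], [],
   [], [2], [], [], [2], [], [], [2], [], [], [], [], [], [], [], [], [], [1], [], [], [], [],
   [], [], [], [], [], [], [], [], [], [], [], [], [], [], [], [], [], [], [0], [], [], [], [],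
   [], [], [], [], [], [], [], [2], [], [], [], [], [], [], [], [0], [], [], [], [], [], [], [],
   [], [], [], [], [], [], [], [], [], [], [], [], [], [], [], [], [], [], [], [], [], [], [],
   [], [], [], [], [], [1], [], [], [], [], [], [], [], []],
   [[], [], [], [], [], [], [2], [], [], [], [], [], [], [], [], [], [], [], [], [], [], [], [],
   [], [], [], [], [], [], [], [], [], [], [], [], [], [], [], [], [], [], [], [], [], [], [],
   [], [], [], [], [], [], [], [], [], [], [], [], [], [], [], [], [], [], [], [], [], [], [],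
   [], [], [], [], [], [], [], [], [], [], [], [], [], [], [], [], [], [], [], []]]

/-- Representative of orbit 2 of `triSext`. -/
def triSextRep2 : List ℕ := [0x1d, 0x1482, 0x54800, 0xa2040, 0x508020, 0xa00300]

/-- The orbits of `triSext`. -/
def triSextData : List (List ℕ × List (List (List ℕ))) :=
  [(triSextRep0, triSextPlan0), (triSextRep1, triSextPlan1), (triSextRep2, triSextPlan2)]

end Cfsg.Agent.GolayOrbitLists
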