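/-
Orbit plans for the stabiliser of a trio on octads, produced by a search program and checked by the
kernel where used: for each layer and each of its members, the generators leading to new members.
-/
import Cfsg.Agent.EqLemmas

set_option autoImplicit false
set_option maxRecDepth 20000

namespace Cfsg.Agent.GolayOrbitLists

/-- Generators for `trioOct`. -/
def trioOctGens : List ℕ :=
  [
    0xbb608b540a5c68c91a674bc2428dc2, 
    0x64af57b9a32a4900454b306c23cd14, 
    0x142667d0274954bb3655230688bae0]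

/-- Layers of orbit 0 (size 3) of `trioOct`. -/
def trioOctPlan0 : List (List (List ℕ)) :=
  [[[1, 2]]]

/-- Representative of orbit 0 of `trioOct`. -/
def trioOctRep0 : List ℕ := [0x258c50]

/-- Layers of orbit 1 (size 84) of `trioOct`. -/
def trioOctPlan1 : List (List (List ℕ)) :=
  [[[0, 1, 2]],
   [[0, 1, 2], [0, 1, 2], [0, 1, 2]],
   [[0, 1, 2], [0, 1, 2], [0, 1, 2], [1, 2], [0, 2], [0], [0, 1, 2], [0, 1], [0, 1, 2]],
   [[0, 1], [1, 2], [0, 1, 2], [1], [], [0, 1], [1, 2], [0], [1], [0, 1], [1], [0, 2], [2], [1],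
   [1, 2], [0, 1, 2], [0], [0], [0], [1], [], [0, 2]],
   [[], [], [0, 1], [1], [1], [], [2], [], [1], [], [0, 2], [2], [], [0], [0], [2], [], [], [], [],
   [], [], [], [], [], [], [], [], [0, 2], [], [], [0]],
   [[], [], [], [1, 2], [], [], [], [], [], [], [], [], [], [], []]]

/-- Representative of orbit 1 of `trioOct`. -/
def trioOctRep1 : List ℕ := [0x1c436]

/-- Layers of orbit 2 (size 672) of `trioOct`. -/
def trioOctPlan2 : List (List (List ℕ)) :=
  [[[0, 1, 2]],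
   [[0, 1, 2], [0, 1, 2], [0, 1, 2]],
   [[0, 1, 2], [0, 1, 2], [0, 1, 2], [0, 1, 2], [0, 1, 2], [0, 1, 2], [0, 1, 2], [0, 1, 2],
   [0, 1, 2]],
   [[0, 1, 2], [0, 1, 2], [0, 1, 2], [0, 1, 2], [0, 1, 2], [0, 2], [0, 1, 2], [0, 1, 2], [0, 1, 2],
   [0, 1, 2], [0, 1, 2], [1, 2], [0, 1, 2], [0, 1], [0, 2], [0, 1, 2], [0, 1, 2], [0, 1, 2],
   [0, 1, 2], [0, 1, 2], [0, 1, 2], [0, 1, 2], [0, 1, 2], [0, 1, 2], [0, 1, 2], [1, 2], [0, 1, 2]],
   [[0, 1, 2], [0, 1, 2], [0, 1, 2], [0, 1, 2], [0, 1], [0, 1, 2], [1, 2], [0, 1, 2], [1, 2],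
   [0, 2], [0, 1, 2], [0, 1], [1, 2], [1, 2], [0, 1, 2], [0, 1, 2], [1, 2], [0, 1], [0, 1, 2],
   [0, 1, 2], [0, 1, 2], [0, 1, 2], [0, 1, 2], [1, 2], [0, 1], [0, 1, 2], [0, 1, 2], [0, 1, 2],
   [0, 1, 2], [2], [0, 2], [0, 1, 2], [0, 1], [0, 2], [2], [0, 1, 2], [0, 1, 2], [0, 1], [1, 2],
   [0, 1], [1], [0], [0, 1, 2], [0, 2], [0, 1, 2], [0, 1, 2], [0, 1, 2], [0, 1, 2], [0], [0, 2],
   [1], [0, 1], [1, 2], [2], [0, 1, 2], [0, 1, 2], [0, 2], [0, 1, 2], [1, 2], [0, 1, 2],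
   [0, 1, 2], [1, 2], [0, 1, 2], [1, 2], [0, 1, 2], [0, 1, 2], [1], [0, 2], [0, 1, 2], [1, 2],
   [0, 1, 2], [0, 1, 2], [0, 1], [0, 1], [2], [0, 2]],
   [[0], [1], [0, 1, 2], [1], [0, 1], [0, 1, 2], [1], [0], [1, 2], [0, 1, 2], [0, 1, 2], [], [0],
   [0], [1], [1], [0, 2], [0, 1, 2], [1, 2], [0, 1], [0, 1, 2], [0, 2], [0, 2], [0, 2],
   [0, 1, 2], [1, 2], [0, 1, 2], [0, 1, 2], [0, 1, 2], [1], [0, 1], [0, 1, 2], [0, 1], [0, 1, 2],
   [1, 2], [], [0, 1], [1], [0, 1], [1, 2], [0, 1, 2], [0, 1, 2], [0, 2], [0, 1], [0, 1], [0],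
   [0, 1], [2], [0, 1, 2], [0, 1], [0, 1], [1], [], [2], [0, 1], [1], [], [0, 1], [0, 2], [1],
   [1], [2], [1, 2], [], [1], [0, 1], [0, 1], [0, 1, 2], [2], [], [0, 1, 2], [0], [1], [1],
   [0, 2], [], [0, 2], [0, 2], [0], [0, 1, 2], [1], [0, 1, 2], [2], [1], [], [1], [], [0, 1],
   [1], [], [0, 1, 2], [0], [], [0, 1], [1], [0, 1, 2], [1, 2], [0, 2], [], [0], [0], [0, 2],
   [2], [0, 1], [1, 2], [], [1, 2], [0, 1], [2], [1], [1], [0, 1], [1], [2], [0, 1], [1, 2], [1],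
   [0], [2], [1], [2], [], [1], [1], [2], [0, 1], [0], [1], [0], [0, 2], [], [1], [], [1], [1],
   [1], [1], [1, 2], [], [2], [], [1, 2], [], [0], [1], [2], [1, 2], [1, 2], [2], [2], [0, 1, 2],
   [1], [], [0], [], [0], [2], [1], [2], [], [0, 2], [2], [2], [0, 2], [1, 2], [], [0, 1],
   [0, 2], [0], [1], [], [1, 2], [1], [], [0, 1], [], [], [0], [0, 2], [2]],
   [[1], [2], [1], [0], [], [1], [0, 1, 2], [0], [1], [0, 1, 2], [2], [2], [], [2], [0, 1], [],
   [0, 2], [2], [2], [], [], [0], [1, 2], [2], [2], [], [1], [1], [], [0], [0], [], [1, 2], [0],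
   [], [2], [1], [1], [], [1], [], [0], [], [0, 2], [1], [], [1], [1], [2], [2], [], [0, 1], [0],
   [1], [1], [], [0, 1], [2], [1], [], [0, 2], [1], [2], [], [1], [], [], [2], [0], [], [2], [],
   [], [], [1], [], [1], [1], [0], [], [], [], [], [0], [], [], [], [0], [], [], [0, 1, 2], [2],
   [], [], [], [], [0], [], [0], [1, 2], [2], [0], [0], [], [], [1], [], [0, 1], [], [], [0], [],
   [], [0], [], [0], [], [2], [], [], [0, 1], [1], [0], [2], [1], [], [], [0], [], [0], [], [],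
   [], [], [], [], [1, 2], [], [1], [2], [], [], [0], [0, 1], [], [0], [], [], [], [], [0], [],
   [], [2], [], [], [0, 2], [], [], [], [], [0], [], [], [2], [], [2], [0], [], [], [], [], [],
   [], [1], [], [2], [], [], [], [], [2], [], [], [], [], [], [], [], [], [], [], [], [], [], [],
   [1], [2], [], [], [], [], [], [1], [], [], [], [], [], [], [], [], [], [], [1], [], [1], [],
   [], [], [], [], [], [], [], [], [], [], [], [], [], [], [], [], [], [], [], [], [], [], [],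
   [], [2], [], [1], [], [], [], [], [], [], [], []],
   [[], [], [], [], [], [], [], [], [], [], [], [], [], [], [], [], [], [], [], [], [], [], [], [],
   [], [], [], [], [], [], [], [], [], [], [], [], [], [], [], [], [], [], [], [1], [], [], [],
   [], [], [], [], [], [], [], [], [], [], [], [], [], [], [], [], [], [], [], [], [], [], [],
   [], [], [], [], [1], [], [], [], [], [], [], [], [], [], [], [], [], [], [], [], [], [], [],
   [], [], [], [], [], [], [], [], [], [], [], [], [], [], [], [], [], [], [], [], [], [], [],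
   [], [], [], [], []]]

/-- Representative of orbit 2 of `trioOct`. -/
def trioOctRep2 : List ℕ := [0x149f]

/-- The orbits of `trioOct`. -/
def trioOctData : List (List ℕ × List (List (List ℕ))) :=
  [(trioOctRep0, trioOctPlan0), (trioOctRep1, trioOctPlan1), (trioOctRep2, trioOctPlan2)]

end Cfsg.Agent.GolayOrbitLists
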